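import Groth.Agent.Adic7.Lift
import Groth.Agent.LC.CanonComplete
import Groth.Agent.CplFib6.GRingStable
import Groth.Agent.RegFS6.NormalPS
import Groth.Agent.PopescuLib.LocalCompletion
import Groth.Agent.PopescuLib.Main
import Groth.Agent.CplFib6.Excellent
import Mathlib

/-! The completed polynomial ring covering a complete local algebra with rational residue field. -/

set_option autoImplicit false
universe u

namespace Groth.Agent.Alg17

open IsLocalRing

variable (k : Type u) [Field k] (n : ℕ)

/-- The ideal of the origin. -/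
noncomputable abbrev orig : Ideal (MvPolynomial (Fin n) k) := RingHom.ker MvPolynomial.constantCoeff

instance : (orig k n).IsMaximal :=
  RingHom.ker_isMaximal_of_surjective _ fun c => ⟨MvPolynomial.C c, MvPolynomial.constantCoeff_C _ c⟩

/-- The local ring at the origin. -/
abbrev Loc : Type u := Localization.AtPrime (orig k n)

/-- Its completion. -/
abbrev Cpl : Type u := AdicCompletion (maximalIdeal (Loc k n)) (Loc k n)

theorem exists_sub_C_mem (a : MvPolynomial (Fin n) k) :
    ∃ c : k, a - algebraMap k (MvPolynomial (Fin n) k) c ∈ orig k n :=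
  ⟨MvPolynomial.constantCoeff a, by simp [orig, MvPolynomial.algebraMap_eq]⟩

theorem orig_eq_span : orig k n = Ideal.span (Set.range MvPolynomial.X) := by
  refine le_antisymm (fun a ha => ?_) (Ideal.span_le.2 ?_)
  · rw [RingHom.mem_ker] at ha
    revert ha
    suffices H : a - MvPolynomial.C (MvPolynomial.constantCoeff a) ∈ Ideal.span (Set.range MvPolynomial.X) by
      intro ha; simpa [ha] using H
    induction a using MvPolynomial.induction_on with
    | C c => simp
    | add p q hp hq => convert add_mem hp hq using 1; simp; ring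
    | mul_X p i _ =>
      simp only [map_mul, MvPolynomial.constantCoeff_X, mul_zero, map_zero, sub_zero]
      exact Ideal.mul_mem_left _ _ (Ideal.subset_span ⟨i, rfl⟩)
  · rintro _ ⟨i, rfl⟩; simp [orig]

theorem indSmooth_cpl : Smoothing.IndSmooth (MvPolynomial (Fin n) k) (Cpl k n) := by
  haveI : IsNoetherianRing (Cpl k n) := LC.Canon.isNoetherianRing_completion (R := Loc k n)
  refine PopescuLib.indSmooth_of_localization (Loc k n) (orig k n).primeCompl ?_
  refine PopescuLib.indSmooth_of_isRegularHom ?_
  exact (CplFib6.isGRing_of_finiteType (RegFS6.isGRing_field k) (MvPolynomial (Fin n) k)).2 (orig k n)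

theorem approx_loc (l : ℕ) (x : Fin l → Loc k n) :
    ∃ (R₀ : Type u) (_ : CommRing R₀) (_ : Algebra (MvPolynomial (Fin n) k) R₀),
      Algebra.Etale (MvPolynomial (Fin n) k) R₀ ∧
      ∃ (ι : R₀ →ₐ[MvPolynomial (Fin n) k] Loc k n) (r : Fin l → R₀), ∀ i, ι (r i) = x i := by
  let P := MvPolynomial (Fin n) k
  obtain ⟨b, hb⟩ := IsLocalization.exist_integer_multiples_of_finite (orig k n).primeCompl x
  have hu : IsUnit (algebraMap P (Loc k n) b) := IsLocalization.map_units _ b
  refine ⟨Localization.Away (b : P), inferInstance, inferInstance,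
    Algebra.Etale.of_isLocalizationAway (b : P), ?_⟩
  let ι : Localization.Away (b : P) →ₐ[P] Loc k n :=
    IsLocalization.liftAlgHom (M := Submonoid.powers (b : P)) (f := Algebra.ofId P (Loc k n)) fun y => by
      obtain ⟨m, hm⟩ := y.2
      show IsUnit (algebraMap P (Loc k n) y)
      rw [← hm, map_pow]
      exact hu.pow m
  refine ⟨ι, fun i => algebraMap P _ (hb i).choose * IsLocalization.Away.invSelf (b : P), fun i => ?_⟩
  rw [map_mul, ι.commutes]
  refine hu.mul_right_cancel ?_
  rw [mul_assoc, ← ι.commutes (b : P), ← map_mul, mul_comm (IsLocalization.Away.invSelf (b : P)),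
    IsLocalization.Away.mul_invSelf, map_one, mul_one, ι.commutes, (hb i).choose_spec, Algebra.smul_def, mul_comm]

variable {k n}

/-- A complete local algebra with residue field `k` is a quotient of some completed polynomial ring. -/
theorem exists_cover (R : Type u) [CommRing R] [Algebra k R] [IsLocalRing R] [IsNoetherianRing R]
    [IsAdicComplete (maximalIdeal R) R]
    (hres : Function.Surjective (fun c : k => residue R (algebraMap k R c))) :
    ∃ (n : ℕ) (G : Cpl k n →+* R), Function.Surjective G ∧ (maximalIdeal (Cpl k n)).map G = maximalIdeal R ∧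
      (∀ c : k, G (algebraMap (MvPolynomial (Fin n) k) (Cpl k n) (MvPolynomial.C c)) = algebraMap k R c) := by
  classical
  obtain ⟨n, x, hx⟩ := Submodule.fg_iff_exists_fin_generating_family.1 (IsNoetherian.noetherian (maximalIdeal R))
  let P := MvPolynomial (Fin n) k
  let π : P →ₐ[k] R := MvPolynomial.aeval x
  have hxm : ∀ i, x i ∈ maximalIdeal R := fun i => hx.le (Submodule.subset_span ⟨i, rfl⟩)
  have hπI : (orig k n).map π = maximalIdeal R := by
    rw [orig_eq_span, Ideal.map_span, ← Set.range_comp]
    have : (π ∘ MvPolynomial.X : Fin n → R) = x := funext fun i => MvPolynomial.aeval_X x i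
    rw [this]
    exact hx
  have hπu : ∀ a ∉ orig k n, IsUnit (π a) := fun a ha => by
    by_contra h
    obtain ⟨c, hc⟩ := exists_sub_C_mem k n a
    have h1 : π a - algebraMap k R c ∈ maximalIdeal R := by
      have := hπI.le (Ideal.mem_map_of_mem π hc)
      rwa [map_sub, AlgHom.commutes] at this
    have h2 : algebraMap k R c ∈ maximalIdeal R := by
      have := sub_mem (show π a ∈ maximalIdeal R from h) h1
      rwa [sub_sub_cancel] at this
    by_cases hc0 : c = 0
    · exact ha (by simpa [hc0] using hc)
    · exact h2 ((isUnit_iff_ne_zero.2 hc0).map _)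
  let πL : Loc k n →ₐ[k] R := IsLocalization.liftAlgHom (M := (orig k n).primeCompl) (f := π) fun a => hπu _ a.2
  have hπL : ∀ a, πL (algebraMap P _ a) = π a := fun a => IsLocalization.lift_eq _ a
  have hπLm : (maximalIdeal (Loc k n)).map πL = maximalIdeal R := by
    rw [← IsLocalization.AtPrime.map_eq_maximalIdeal (orig k n) (Loc k n)]
    refine (Ideal.map_map (algebraMap P (Loc k n)) πL.toRingHom).trans ?_
    rw [← hπI]
    exact congrArg (fun φ => Ideal.map φ (orig k n)) (RingHom.ext hπL)
  obtain ⟨G, hG⟩ := Adic7.exists_lift_completion (R := k) (maximalIdeal (Loc k n)) (maximalIdeal R) πL hπLm.le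
  have hfg : (maximalIdeal (Loc k n)).FG := IsNoetherian.noetherian _
  have hmax : maximalIdeal (Cpl k n) = (maximalIdeal (Loc k n)).map (algebraMap (Loc k n) (Cpl k n)) :=
    AdicCompletion.maximalIdeal_eq_map_of_fg hfg
  haveI : IsAdicComplete (maximalIdeal (Cpl k n)) (Cpl k n) := AdicCompletion.isAdicComplete_of_fg hfg
  have hGm : (maximalIdeal (Cpl k n)).map G.toRingHom = maximalIdeal R := by
    rw [hmax, Ideal.map_map, ← hπLm]
    exact congrArg (fun φ => Ideal.map φ (maximalIdeal (Loc k n))) (RingHom.ext hG)
  refine ⟨n, G.toRingHom, ?_, hGm, fun c => ?_⟩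
  · haveI : IsHausdorff ((maximalIdeal (Cpl k n)).map G.toRingHom) R := hGm.symm ▸ inferInstance
    refine surjective_of_mk_map_comp_surjective (I := maximalIdeal (Cpl k n)) (f := G.toRingHom) ?_
    intro y
    obtain ⟨r, rfl⟩ := Ideal.Quotient.mk_surjective y
    obtain ⟨c, hc⟩ := hres (residue R r)
    refine ⟨algebraMap k (Cpl k n) c, ?_⟩
    show Ideal.Quotient.mk _ (G (algebraMap k _ c)) = Ideal.Quotient.mk _ r
    rw [G.commutes, Ideal.Quotient.eq, hGm]
    exact Ideal.Quotient.eq.1 hc
  · show G (algebraMap P (Cpl k n) (algebraMap k P c)) = _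
    rw [IsScalarTower.algebraMap_apply P (Loc k n) (Cpl k n), hG, hπL, π.commutes]

end Groth.Agent.Alg17
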