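import Mathlib

/-! Truncations of an étale neighbourhood of a rational point. -/

set_option autoImplicit false
universe u

namespace Groth.Agent.Alg17

variable {k P E T : Type u} [Field k] [CommRing P] [CommRing E] [CommRing T] [Algebra k P]
  [Algebra k E] [Algebra P E] [IsScalarTower k P E] [Algebra.FormallyUnramified P E]

/-- At a rational point of an unramified algebra the maximal ideal is generated from the base, modulo
any power of itself. -/
theorem le_map_sup_pow (I : Ideal P) (hI : ∀ a, ∃ c : k, a - algebraMap k P c ∈ I) (p : Ideal E)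
    [p.IsMaximal] (hp : I ≤ p.comap (algebraMap P E)) (hres : ∀ y : E, ∃ c : k, y - algebraMap k E c ∈ p)
    (n : ℕ) : p ≤ I.map (algebraMap P E) ⊔ p ^ n := by
  let K : Ideal E := I.map (algebraMap P E) ⊔ p ^ 2
  have hKp : K ≤ p := sup_le (Ideal.map_le_iff_le_comap.2 hp) (Ideal.pow_le_self two_ne_zero)
  have h2 : p ≤ K := by
    let q : Ideal (E ⧸ K) := p.map (Ideal.Quotient.mk K)
    have hq : q ^ 2 = ⊥ := by
      rw [← Ideal.map_pow, ← le_bot_iff]
      exact (Ideal.map_mono le_sup_right).trans_eq (Ideal.map_quotient_self K)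
    -- the residue class map
    choose c hc using hres
    have hcu : ∀ (y : E) (d : k), y - algebraMap k E d ∈ p → c y = d := fun y d hd => by
      by_contra hne
      have h1 := sub_mem hd (hc y)
      rw [sub_sub_sub_cancel_left, ← map_sub] at h1
      exact (Ideal.IsMaximal.ne_top ‹p.IsMaximal›) (p.eq_top_of_isUnit_mem h1
        ((isUnit_iff_ne_zero.2 (sub_ne_zero.2 hne)).map _))
    let χ : E →+* k :=
      { toFun := c
        map_one' := hcu 1 1 (by simp)
        map_zero' := hcu 0 0 (by simp)
        map_mul' := fun a b => hcu _ _ (by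
          have := p.add_mem (p.mul_mem_right b (hc a)) (p.mul_mem_left (algebraMap k E (c a)) (hc b))
          rw [map_mul]; convert this using 1; ring)
        map_add' := fun a b => hcu _ _ (by
          have := p.add_mem (hc a) (hc b)
          rw [map_add]; convert this using 1; ring) }
    let θ : E →ₐ[P] E ⧸ K :=
      { ((algebraMap k (E ⧸ K)).comp χ) with
        commutes' := fun a => by
          obtain ⟨d, hd⟩ := hI a
          have hd' : algebraMap P E a - algebraMap k E d ∈ I.map (algebraMap P E) := by
            rw [IsScalarTower.algebraMap_apply k P E, ← map_sub]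
            exact Ideal.mem_map_of_mem _ hd
          show Ideal.Quotient.mk K (algebraMap k E (c (algebraMap P E a))) = Ideal.Quotient.mk K (algebraMap P E a)
          rw [hcu _ d (Ideal.map_le_iff_le_comap.2 hp hd'), Ideal.Quotient.eq]
          have := K.neg_mem ((le_sup_left : I.map (algebraMap P E) ≤ K) hd')
          rwa [neg_sub] at this }
    have hext : (Ideal.Quotient.mkₐ P K) = θ := Algebra.FormallyUnramified.ext q ⟨2, hq⟩ fun y => by
      show Ideal.Quotient.mk q (Ideal.Quotient.mk K y) = Ideal.Quotient.mk q (Ideal.Quotient.mk K (algebraMap k E (c y)))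
      rw [Ideal.Quotient.eq, ← map_sub]
      exact Ideal.mem_map_of_mem _ (hc y)
    intro y hy
    rw [← Ideal.Quotient.eq_zero_iff_mem]
    refine (AlgHom.congr_fun hext y).trans ?_
    show Ideal.Quotient.mk K (algebraMap k E (c y)) = 0
    rw [hcu y 0 (by simpa using hy), map_zero, map_zero]
  induction n with
  | zero => simp
  | succ n ih =>
    rcases Nat.eq_zero_or_pos n with rfl | hn
    · simp
    refine h2.trans (sup_le le_sup_left ?_)
    calc p ^ 2 ≤ p * (I.map (algebraMap P E) ⊔ p ^ n) := by
          rw [pow_two]; exact Ideal.mul_mono le_rfl ih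
      _ = p * I.map (algebraMap P E) ⊔ p * p ^ n := Ideal.mul_sup _ _ _
      _ ≤ _ := sup_le_sup (Ideal.mul_le_right) (pow_succ' p n).symm.le

/-- `P → E / p ^ n` is surjective. -/
theorem exists_sub_mem_pow (I : Ideal P) (hI : ∀ a, ∃ c : k, a - algebraMap k P c ∈ I) (p : Ideal E)
    [p.IsMaximal] (hp : I ≤ p.comap (algebraMap P E)) (hres : ∀ y : E, ∃ c : k, y - algebraMap k E c ∈ p)
    (n : ℕ) (y : E) : ∃ a : P, y - algebraMap P E a ∈ p ^ n := by
  suffices H : ∀ j, ∀ y : E, y ∈ p ^ j → ∃ a ∈ I ^ j, y - algebraMap P E a ∈ p ^ (j + 1) by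
    induction n with
    | zero => exact ⟨0, by simp⟩
    | succ n ih =>
      obtain ⟨a, ha⟩ := ih
      obtain ⟨b, -, hb⟩ := H n _ ha
      exact ⟨a + b, by rwa [map_add, ← sub_sub]⟩
  intro j
  induction j with
  | zero =>
    intro y _
    obtain ⟨c, hc⟩ := hres y
    exact ⟨algebraMap k P c, by simp, by rwa [← IsScalarTower.algebraMap_apply, zero_add, pow_one]⟩
  | succ j ih =>
    intro y hy
    rw [pow_succ] at hy
    induction hy using Submodule.mul_induction_on' with
    | mem_mul_mem y hy z hz =>
      obtain ⟨a, ha, hay⟩ := ih y hy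
      obtain ⟨w, hw, w', hw', rfl⟩ := Submodule.mem_sup.1 (le_map_sup_pow I hI p hp hres 2 hz)
      have hapE : algebraMap P E a ∈ p ^ j :=
        (Ideal.map_le_iff_le_comap.1 ((Ideal.map_pow (algebraMap P E) I j).trans_le
          (Ideal.pow_right_mono (Ideal.map_le_iff_le_comap.2 hp) j))) ha
      suffices ∃ b ∈ I ^ (j + 1), algebraMap P E a * w - algebraMap P E b ∈ p ^ (j + 2) by
        obtain ⟨b, hb, hab⟩ := this
        refine ⟨b, hb, ?_⟩
        have h1 : (y - algebraMap P E a) * (w + w') ∈ p ^ (j + 2) := by
          rw [pow_succ]; exact Ideal.mul_mem_mul hay hz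
        have h2' : algebraMap P E a * w' ∈ p ^ (j + 2) := by
          rw [pow_add]; exact Ideal.mul_mem_mul hapE hw'
        have := add_mem (add_mem h1 h2') hab
        convert this using 1; ring
      clear hz
      induction hw using Submodule.span_induction with
      | mem t ht =>
        obtain ⟨i, hi, rfl⟩ := ht
        exact ⟨a * i, by rw [pow_succ]; exact Ideal.mul_mem_mul ha hi, by simp⟩
      | zero => exact ⟨0, zero_mem _, by simp⟩
      | add t t' _ _ h h' =>
        obtain ⟨b, hb, hb'⟩ := h
        obtain ⟨d, hd, hd'⟩ := h'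
        exact ⟨b + d, add_mem hb hd, by convert add_mem hb' hd' using 1; rw [map_add]; ring⟩
      | smul r t ht h =>
        obtain ⟨b, hb, hb'⟩ := h
        obtain ⟨c, hc⟩ := hres r
        refine ⟨algebraMap k P c * b, Ideal.mul_mem_left _ _ hb, ?_⟩
        have h1 : (r - algebraMap k E c) * (algebraMap P E a * t) ∈ p ^ (j + 2) := by
          rw [show j + 2 = 1 + (j + 1) by ring, pow_add, pow_one, pow_succ]
          refine Ideal.mul_mem_mul hc (Ideal.mul_mem_mul hapE (Ideal.map_le_iff_le_comap.2 hp ?_))
          exact ht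
        have := add_mem h1 ((p ^ (j + 2)).mul_mem_left (algebraMap k E c) hb')
        convert this using 1
        rw [smul_eq_mul, map_mul, ← IsScalarTower.algebraMap_apply]
        ring
    | add y _ z _ hy hz =>
      obtain ⟨a, ha, hay⟩ := hy
      obtain ⟨b, hb, hbz⟩ := hz
      exact ⟨a + b, add_mem ha hb, by convert add_mem hay hbz using 1; rw [map_add]; ring⟩

end Groth.Agent.Alg17
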