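import Groth.Agent.AdicGrLib.Basic
import Groth.Prelude.Def_GrMap
import Mathlib

/-! Two quotients of the associated graded ring with the same kernel. -/

set_option autoImplicit false
universe u

namespace Groth.Agent.Alg17

open FiltBl

/-- Two maps `P → R`, `P → A` with dense graded images and the same graded kernel. -/
theorem exists_grEquiv {P R A : Type u} [CommRing P] [CommRing R] [CommRing A] (π : P →+* R) (π' : P →+* A)
    (I : Ideal P) (m : Ideal R) (m' : Ideal A) (hI : I.map π ≤ m) (hI' : I.map π' ≤ m')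
    (hs : ∀ n, ∀ b ∈ m ^ n, ∃ a ∈ I ^ n, π a - b ∈ m ^ (n + 1))
    (hs' : ∀ n, ∀ b ∈ m' ^ n, ∃ a ∈ I ^ n, π' a - b ∈ m' ^ (n + 1))
    (heq : ∀ n, ∀ a ∈ I ^ n, (π a ∈ m ^ (n + 1) ↔ π' a ∈ m' ^ (n + 1))) :
    ∃ e : AssocGr.GrRing (IdealFiltration.adic m) ≃+* AssocGr.GrRing (IdealFiltration.adic m'),
      (∀ (n : ℕ) (x : AssocGr.GrRing (IdealFiltration.adic m)),
        x ∈ AssocGr.gr (IdealFiltration.adic m) n → e x ∈ AssocGr.gr (IdealFiltration.adic m') n) ∧
      ∀ r : P, e (algebraMap R _ (π r)) = algebraMap A _ (π' r) := by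
  have h : AssocGr.IsFiltHom π (IdealFiltration.adic I) (IdealFiltration.adic m) := fun n => by
    refine Ideal.map_le_iff_le_comap.1 ?_
    show (I ^ n).map π ≤ m ^ n
    rw [Ideal.map_pow]; exact Ideal.pow_right_mono hI n
  have h' : AssocGr.IsFiltHom π' (IdealFiltration.adic I) (IdealFiltration.adic m') := fun n => by
    refine Ideal.map_le_iff_le_comap.1 ?_
    show (I ^ n).map π' ≤ m' ^ n
    rw [Ideal.map_pow]; exact Ideal.pow_right_mono hI' n
  have hsurj := AdicGrLib.map_surjective h hs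
  have hsurj' := AdicGrLib.map_surjective h' hs'
  have hmem : ∀ {B : Type u} [CommRing B] {φ : P →+* B} {J : Ideal B}
      (hh : AssocGr.IsFiltHom φ (IdealFiltration.adic I) (IdealFiltration.adic J))
      (f : (IdealFiltration.adic I).rees),
      AssocGr.map hh (AssocGr.mkG _ f) = 0 ↔ ∀ n, φ ((f : Polynomial P).coeff n) ∈ J ^ (n + 1) := by
    intro B _ φ J hh f
    rw [AssocGr.map_mkG, AssocGr.mkG_eq_zero_iff, AssocGr.mem_succIdeal_iff]
    simp only [AssocGr.coe_reesMap, Polynomial.coeff_map]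
    rfl
  have hker : RingHom.ker (AssocGr.map h) = RingHom.ker (AssocGr.map h') := by
    ext x
    obtain ⟨f, rfl⟩ := AssocGr.mkG_surjective _ x
    rw [RingHom.mem_ker, RingHom.mem_ker, hmem h, hmem h']
    exact forall_congr' fun n => heq n _ (f.2 n)
  let e := (RingHom.quotientKerEquivOfSurjective hsurj).symm.trans
    ((Ideal.quotEquivOfEq hker).trans (RingHom.quotientKerEquivOfSurjective hsurj'))
  have he : ∀ y, e (AssocGr.map h y) = AssocGr.map h' y := fun y => by
    show RingHom.quotientKerEquivOfSurjective hsurj' (Ideal.quotEquivOfEq hker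
      ((RingHom.quotientKerEquivOfSurjective hsurj).symm (AssocGr.map h y))) = _
    rw [show (RingHom.quotientKerEquivOfSurjective hsurj).symm (AssocGr.map h y) = Ideal.Quotient.mk _ y from
      (RingEquiv.symm_apply_eq _).2 rfl]
    rfl
  refine ⟨e, fun n x hx => ?_, fun r => ?_⟩
  · obtain ⟨b, hb⟩ := AssocGr.inDeg_surjective (IdealFiltration.adic m) n ⟨x, hx⟩
    obtain ⟨a, ha, hab⟩ := hs n _ b.2
    have hx' : x = AssocGr.map h (AssocGr.inDeg (IdealFiltration.adic I) n ⟨a, ha⟩ : AssocGr.GrRing _) := by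
      rw [AssocGr.map_inDeg]
      refine Eq.trans (congrArg Subtype.val hb).symm (congrArg Subtype.val ?_)
      rw [← sub_eq_zero, ← map_sub, AssocGr.inDeg_eq_zero_iff]
      have := (m ^ (n + 1)).neg_mem hab
      rwa [neg_sub] at this
    rw [hx', he, AssocGr.map_inDeg]
    exact Subtype.prop _
  · rw [← AssocGr.map_algebraMap h, he, AssocGr.map_algebraMap]

end Groth.Agent.Alg17
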