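import Groth.Agent.Alg17.Perturb
import Groth.Agent.Alg17.Gr
import Groth.Agent.Alg17.Etale
import Groth.Agent.Alg17.Data
import Groth.Agent.PopescuLib.FPColim
import Mathlib

/-! Finite type approximations of complete local algebras with an element of a functor. -/

set_option autoImplicit false
universe u

namespace Groth.Agent.Alg17

open IsLocalRing CategoryTheory CategoryTheory.Limits

/-- Elements outside the origin are invertible modulo powers of its ideal. -/
theorem exists_mul_add_eq_one (k : Type u) [Field k] (n : ℕ) (u : MvPolynomial (Fin n) k) (hu : u ∉ orig k n)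
    (j : ℕ) : ∃ w, ∃ z ∈ orig k n ^ j, w * u + z = 1 := by
  have htop : Ideal.span {u} ⊔ orig k n ^ j = ⊤ := Ideal.sup_pow_eq_top
    ((inferInstance : (orig k n).IsMaximal).1.2 _ (lt_of_le_of_ne le_sup_right fun h => hu
      (h.symm ▸ Ideal.mem_sup_left (Ideal.mem_span_singleton_self u))))
  obtain ⟨y, hy, z, hz, hyz⟩ := Submodule.mem_sup.1 ((Ideal.eq_top_iff_one _).1 htop)
  obtain ⟨w, rfl⟩ := Ideal.mem_span_singleton'.1 hy
  exact ⟨w, z, hz, hyz⟩

/-- An element comes from a finitely presented algebra. -/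
theorem exists_fp_element (k : Type u) [CommRing k] (F : CommAlgCat.{u} k ⥤ Type u)
    (hF : ∀ (J : Type u) [SmallCategory J] [IsFiltered J], PreservesColimitsOfShape J F)
    (B : Type u) [CommRing B] [Algebra k B] (ξ : F.obj (CommAlgCat.of k B)) :
    ∃ (P₀ : Type u) (_ : CommRing P₀) (_ : Algebra k P₀), Algebra.FinitePresentation k P₀ ∧
      ∃ (g : P₀ →ₐ[k] B) (ξ₀ : F.obj (CommAlgCat.of k P₀)), F.map (CommAlgCat.ofHom g) ξ₀ = ξ := by
  let e := commAlgCatEquivUnder (CommRingCat.of k)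
  let F' : Under (CommRingCat.of k) ⥤ Type u := e.inverse ⋙ F
  have hF' : ∀ (J : Type u) [SmallCategory J] [IsFiltered J], PreservesColimitsOfShape J F' := fun J _ _ => by
    haveI := hF J
    infer_instance
  obtain ⟨P, _, _, hP, f, ξ₀, hξ⟩ := PopescuLib.exists_fp_preimage (A := k) (B := B) F' hF'
    (F.map (e.unitIso.hom.app (CommAlgCat.of k B)) ξ)
  let h : CommAlgCat.of k P ⟶ CommAlgCat.of k B :=
    e.unitIso.hom.app (CommAlgCat.of k P) ≫ e.inverse.map f ≫ e.unitIso.inv.app (CommAlgCat.of k B)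
  refine ⟨P, inferInstance, inferInstance, hP, h.hom, F.map (e.unitIso.inv.app (CommAlgCat.of k P)) ξ₀, ?_⟩
  show F.map h (F.map _ ξ₀) = ξ
  let uP := F.mapIso (e.unitIso.app (CommAlgCat.of k P))
  let uB := F.mapIso (e.unitIso.app (CommAlgCat.of k B))
  have e2 : F.map h = uP.hom ≫ F.map (e.inverse.map f) ≫ uB.inv :=
    (F.map_comp _ _).trans (congrArg (uP.hom ≫ ·) (F.map_comp _ _))
  calc F.map h (uP.inv ξ₀) = uB.inv (F.map (e.inverse.map f) (uP.hom (uP.inv ξ₀))) := by rw [e2]; rfl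
    _ = uB.inv (F.map (e.inverse.map f) ξ₀) := congrArg (fun z => uB.inv (F.map (e.inverse.map f) z)) (uP.toEquiv.apply_symm_apply ξ₀)
    _ = uB.inv (uB.hom ξ) := congrArg (fun z => uB.inv z) hξ
    _ = ξ := uB.toEquiv.symm_apply_apply ξ

set_option maxHeartbeats 800000 in
/-- Approximation: same truncation, same associated graded ring, compatible elements. -/
theorem exists_approximation (k : Type u) [Field k] (F : CommAlgCat.{u} k ⥤ Type u)
    (hF : ∀ (J : Type u) [SmallCategory J] [IsFiltered J], PreservesColimitsOfShape J F)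
    (R : Type u) [CommRing R] [Algebra k R] [IsLocalRing R] [IsNoetherianRing R]
    [IsAdicComplete (maximalIdeal R) R]
    (hres : Function.Surjective (fun c : k => residue R (algebraMap k R c)))
    (ξ : F.obj (CommAlgCat.of k R)) (N : ℕ) :
    ∃ (A : Type u) (_ : CommRing A) (_ : Algebra k A) (_ : Algebra.FiniteType k A)
      (m : Ideal A) (_ : m.IsMaximal)
      (_ : Function.Surjective (fun c : k => Ideal.Quotient.mk m (algebraMap k A c)))
      (η : F.obj (CommAlgCat.of k A)) (n : ℕ) (π : MvPolynomial (Fin n) k →ₐ[k] R)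
      (π' : MvPolynomial (Fin n) k →ₐ[k] A),
      (orig k n).map π.toRingHom ≤ maximalIdeal R ∧ (orig k n).map π'.toRingHom ≤ m ∧
      (∀ j, ∀ b ∈ maximalIdeal R ^ j, ∃ a ∈ orig k n ^ j, π a - b ∈ maximalIdeal R ^ (j + 1)) ∧
      (∀ j, ∀ b ∈ m ^ j, ∃ a ∈ orig k n ^ j, π' a - b ∈ m ^ (j + 1)) ∧
      (∀ j, ∀ a ∈ orig k n ^ j, (π a ∈ maximalIdeal R ^ (j + 1) ↔ π' a ∈ m ^ (j + 1))) ∧
      ∃ φ : (R ⧸ maximalIdeal R ^ (N + 1)) ≃ₐ[k] (A ⧸ m ^ (N + 1)),
        (∀ a, φ (Ideal.Quotient.mk _ (π a)) = Ideal.Quotient.mk _ (π' a)) ∧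
        F.map (CommAlgCat.ofHom (φ.toAlgHom.comp
            (Ideal.Quotient.mkₐ k (maximalIdeal R ^ (N + 1))))) ξ =
          F.map (CommAlgCat.ofHom (Ideal.Quotient.mkₐ k (m ^ (N + 1)))) η := by
  classical
  obtain ⟨n, G, hGsurj, hGm, hGC⟩ := exists_cover R hres
  let P := MvPolynomial (Fin n) k
  let T := Cpl k n
  let M := maximalIdeal T
  haveI : IsNoetherianRing T := LC.Canon.isNoetherianRing_completion (R := Loc k n)
  have hfg : (maximalIdeal (Loc k n)).FG := IsNoetherian.noetherian _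
  have hmax : M = (maximalIdeal (Loc k n)).map (algebraMap (Loc k n) T) :=
    AdicCompletion.maximalIdeal_eq_map_of_fg hfg
  have hMmap : (orig k n).map (algebraMap P T) = M := by
    rw [hmax, IsScalarTower.algebraMap_eq P (Loc k n) T, ← Ideal.map_map,
      IsLocalization.AtPrime.map_eq_maximalIdeal (orig k n) (Loc k n)]
  -- presentation of the element
  obtain ⟨P₀, _, _, hP₀, g₀, ξ₀, hξ⟩ := exists_fp_element k F hF R ξ
  obtain ⟨V, l, ⟨ev, hev, hkerev⟩⟩ :
      ∃ (V : ℕ) (l : Σ L : ℕ, Fin L → MvPolynomial (Fin V) k) (ev : MvPolynomial (Fin V) k →ₐ[k] P₀),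
        Function.Surjective ev ∧ Submodule.span (MvPolynomial (Fin V) k) (Set.range l.2) = RingHom.ker ev := by
    obtain ⟨V, ev, hev, hker⟩ := hP₀.out
    obtain ⟨L, g, hg⟩ := Submodule.fg_iff_exists_fin_generating_family.1 hker
    exact ⟨V, ⟨L, g⟩, ev, hev, hg⟩
  obtain ⟨L, gl⟩ := l
  choose ηv hηv using fun v : Fin V => hGsurj (g₀ (ev (MvPolynomial.X v)))
  obtain ⟨q, f, hf⟩ := Submodule.fg_iff_exists_fin_generating_family.1 (IsNoetherian.noetherian (RingHom.ker G))
  obtain ⟨r, s, hs⟩ := Submodule.fg_iff_exists_fin_generating_family.1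
    (IsNoetherian.noetherian (LinearMap.ker (Fintype.linearCombination T f)))
  have hsz : ∀ j, ∑ i, s j i * f i = 0 := fun j => by
    have := LinearMap.mem_ker.1 (hs.le (Submodule.subset_span ⟨j, rfl⟩))
    simpa [Fintype.linearCombination_apply] using this
  obtain ⟨c₀, hc₀⟩ := exists_perturb M f s (fun a ha => hs.ge (LinearMap.mem_ker.2 (by
    simpa [Fintype.linearCombination_apply] using ha)))
  let Mlev := c₀ + N + 1
  let τ : k →+* P := MvPolynomial.C
  have hGl : ∀ l, (gl l).eval₂ ((algebraMap P T).comp τ) ηv ∈ Submodule.span T (Set.range f) := fun l => by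
    rw [hf, RingHom.mem_ker, MvPolynomial.eval₂_comp_left G]
    have h0 : ev (gl l) = 0 := RingHom.mem_ker.1 (hkerev.le (Submodule.subset_span ⟨l, rfl⟩))
    have h1 : (MvPolynomial.aeval (fun v => g₀ (ev (MvPolynomial.X v)))) (gl l) = g₀ (ev (gl l)) :=
      AlgHom.congr_fun (MvPolynomial.algHom_ext (g := g₀.comp ev) fun v => by simp) (gl l)
    rw [h0, map_zero, MvPolynomial.aeval_def] at h1
    rw [show G.comp ((algebraMap P T).comp τ) = algebraMap k R from RingHom.ext hGC,
      show (G ∘ ηv) = fun v => g₀ (ev (MvPolynomial.X v)) from funext hηv]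
    exact h1
  choose cf hcf using fun l => (Submodule.mem_span_range_iff_exists_fun T).1 (hGl l)
  -- the system
  let σ := (Fin V ⊕ Fin q) ⊕ ((Fin r × Fin q) ⊕ (Fin L × Fin q))
  let aσ : σ → T := Sum.elim (Sum.elim ηv f) (Sum.elim (fun x => s x.1 x.2) (fun x => cf x.1 x.2))
  let Eσ : Fin r ⊕ Fin L → MvPolynomial σ P := Sum.elim
    (fun j => ∑ i, MvPolynomial.X (Sum.inr (Sum.inl (j, i))) * MvPolynomial.X (Sum.inl (Sum.inr i)))
    (fun l => (gl l).eval₂ ((MvPolynomial.C : P →+* MvPolynomial σ P).comp τ) (fun v => MvPolynomial.X (Sum.inl (Sum.inl v))) -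
      ∑ i, MvPolynomial.X (Sum.inr (Sum.inr (l, i))) * MvPolynomial.X (Sum.inl (Sum.inr i)))
  have hsys : ∀ (S : Type u) [CommRing S] [Algebra P S] (b : σ → S) (e : Fin r ⊕ Fin L),
      MvPolynomial.aeval b (Eσ e) = Sum.elim
        (fun j => ∑ i, b (Sum.inr (Sum.inl (j, i))) * b (Sum.inl (Sum.inr i)))
        (fun l => (gl l).eval₂ ((algebraMap P S).comp τ) (fun v => b (Sum.inl (Sum.inl v))) -
          ∑ i, b (Sum.inr (Sum.inr (l, i))) * b (Sum.inl (Sum.inr i))) e := by
    intro S _ _ b e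
    rcases e with j | l
    · simp [Eσ]
    · simp only [Eσ, Sum.elim_inr, map_sub, map_sum, map_mul, MvPolynomial.aeval_X]
      congr 1
      rw [show MvPolynomial.aeval b ((gl l).eval₂ _ _) = (MvPolynomial.aeval b).toRingHom ((gl l).eval₂ _ _) from rfl,
        MvPolynomial.eval₂_comp_left]
      congr 1
      · exact RingHom.ext fun c => by simp
      · funext v; simp
  let eσ := Fintype.equivFin σ
  let eE := Fintype.equivFin (Fin r ⊕ Fin L)
  obtain ⟨E, _, _, hE, ψ, p', hp', hp'x, hψres, hp'mem, bn, hbF, hbN⟩ :=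
    PopescuLib.exists_etale_solution (indSmooth_cpl k n) (approx_loc k n)
      (fun j => MvPolynomial.rename eσ (Eσ (eE.symm j))) (fun i => aσ (eσ.symm i)) (fun j => by
        rw [MvPolynomial.aeval_rename, show ((fun i => aσ (eσ.symm i)) ∘ eσ) = aσ from funext fun x => by simp, hsys]
        rcases eE.symm j with j | l
        · exact hsz j
        · exact sub_eq_zero.2 (hcf l).symm) Mlev
  let b : σ → E := fun x => bn (eσ x)
  have hb : ∀ e, MvPolynomial.aeval b (Eσ e) = 0 := fun e => by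
    have := hbF (eE e)
    rwa [MvPolynomial.aeval_rename, Equiv.symm_apply_apply] at this
  have hbN' : ∀ x, aσ x - ψ (b x) ∈ M ^ Mlev := fun x => by
    have := hbN (eσ x)
    rwa [Equiv.symm_apply_apply, Ideal.map_pow, ← hmax] at this
  -- the rational point
  letI : Algebra k E := ((algebraMap P E).comp τ).toAlgebra
  haveI : IsScalarTower k P E := IsScalarTower.of_algebraMap_eq fun _ => rfl
  have hp'M : ∀ y, y ∈ p' ↔ ψ y ∈ M := fun y => by rw [hmax]; exact hp'mem y
  have hresE : ∀ y : E, ∃ c : k, y - algebraMap k E c ∈ p' := fun y => by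
    obtain ⟨c, hc⟩ := hres (residue R (G (ψ y)))
    refine ⟨c, (hp'M _).2 ?_⟩
    by_contra hn
    have hu : IsUnit (ψ (y - algebraMap k E c)) := IsLocalRing.notMem_maximalIdeal.1 hn
    have h2 := hu.map G
    rw [map_sub ψ, map_sub G, show ψ (algebraMap k E c) = algebraMap P T (τ c) from ψ.commutes _, hGC] at h2
    exact (Ideal.Quotient.eq.1 hc.symm : G (ψ y) - algebraMap k R c ∈ maximalIdeal R) h2
  haveI : p'.IsMaximal := by
    refine Ideal.isMaximal_iff.2 ⟨fun h => hp'.ne_top ((Ideal.eq_top_iff_one _).2 h), fun J y hJ hy hyJ => ?_⟩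
    obtain ⟨c, hc⟩ := hresE y
    have hc0 : c ≠ 0 := fun h => hy (by simpa [h] using hc)
    have h1 : algebraMap k E c ∈ J := by
      have := sub_mem hyJ (hJ hc)
      rwa [sub_sub_cancel] at this
    simpa [← map_mul, hc0] using J.mul_mem_left (algebraMap k E c⁻¹) h1
  haveI : Algebra.FormallyUnramified P E := inferInstance
  have hIp : orig k n ≤ p'.comap (algebraMap P E) := fun a ha => (hp'M _).2 (by
    rw [ψ.commutes, ← hMmap]; exact Ideal.mem_map_of_mem _ ha)
  have hψpow : ∀ j, ∀ y ∈ p' ^ j, ψ y ∈ M ^ j := fun j y hy => by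
    have h1 : p'.map ψ.toRingHom ≤ M := Ideal.map_le_iff_le_comap.2 fun z hz => (hp'M z).1 hz
    exact Ideal.pow_right_mono h1 j ((Ideal.map_pow ψ.toRingHom p' j).le (Ideal.mem_map_of_mem _ hy))
  have hPinj : ∀ j a, algebraMap P T a ∈ M ^ j → a ∈ orig k n ^ j := fun j a ha => by
    rw [hmax, ← Ideal.map_pow, IsScalarTower.algebraMap_apply P (Loc k n) T] at ha
    have h1 : algebraMap P (Loc k n) a ∈ maximalIdeal (Loc k n) ^ j := by
      have hk : (maximalIdeal (Loc k n) ^ j).map (algebraMap (Loc k n) T) ≤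
          RingHom.ker (AdicCompletion.evalₐ (maximalIdeal (Loc k n)) j).toRingHom :=
        Ideal.map_le_iff_le_comap.2 fun z hz => by
          show AdicCompletion.evalₐ (maximalIdeal (Loc k n)) j (algebraMap (Loc k n) T z) = 0
          rw [AlgHom.commutes]; exact Ideal.Quotient.eq_zero_iff_mem.2 hz
      have h2 : AdicCompletion.evalₐ (maximalIdeal (Loc k n)) j (algebraMap (Loc k n) T (algebraMap P _ a)) = 0 := hk ha
      rw [AlgHom.commutes] at h2
      exact Ideal.Quotient.eq_zero_iff_mem.1 h2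
    rw [← IsLocalization.AtPrime.map_eq_maximalIdeal (orig k n) (Loc k n), ← Ideal.map_pow,
      IsLocalization.algebraMap_mem_map_algebraMap_iff (orig k n).primeCompl] at h1
    obtain ⟨u, hu, hua⟩ := h1
    obtain ⟨w, z, hz, hyz⟩ := exists_mul_add_eq_one k n u hu j
    have e : a = w * (u * a) + z * a := by rw [← mul_assoc, ← add_mul, hyz, one_mul]
    rw [e]
    exact add_mem (Ideal.mul_mem_left _ _ hua) (Ideal.mul_mem_right _ _ hz)
  have hPp : ∀ j, (orig k n ^ j).map (algebraMap P E) ≤ p' ^ j := fun j => by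
    rw [Ideal.map_pow]; exact Ideal.pow_right_mono (Ideal.map_le_iff_le_comap.2 hIp) j
  have hψinj : ∀ j y, ψ y ∈ M ^ j → y ∈ p' ^ j := fun j y hy => by
    obtain ⟨a, ha⟩ := exists_sub_mem_pow (orig k n) (exists_sub_C_mem k n) p' hIp hresE j y
    have h1 := hψpow j _ ha
    rw [map_sub, ψ.commutes] at h1
    have h2 : algebraMap P T a ∈ M ^ j := by
      have := sub_mem hy h1
      rwa [sub_sub_cancel] at this
    have := add_mem ha (hPp j (Ideal.mem_map_of_mem _ (hPinj j a h2)))
    rwa [sub_add_cancel] at this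
  -- the approximating algebra
  let fb : Fin q → E := fun i => b (Sum.inl (Sum.inr i))
  let J : Ideal E := Ideal.span (Set.range fb)
  let A := E ⧸ J
  haveI : Algebra.FiniteType k E := Algebra.FiniteType.trans (inferInstance : Algebra.FiniteType k P) inferInstance
  haveI : Algebra.FiniteType k A := inferInstance
  have hfM : ∀ i, f i ∈ M := fun i => by
    by_contra h
    have h1 := (IsLocalRing.notMem_maximalIdeal.1 h).map G
    rw [RingHom.mem_ker.1 (hf.le (Submodule.subset_span ⟨i, rfl⟩))] at h1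
    exact not_isUnit_zero h1
  have hfψ : ∀ i, f i - ψ (fb i) ∈ M ^ Mlev := fun i => hbN' (Sum.inl (Sum.inr i))
  have hJp : J ≤ p' := Ideal.span_le.2 (by
    rintro _ ⟨i, rfl⟩
    refine (hp'M _).2 ?_
    have := sub_mem (hfM i) (Ideal.pow_le_self (by omega) (hfψ i))
    rwa [sub_sub_cancel] at this)
  let mA : Ideal A := p'.map (Ideal.Quotient.mk J)
  haveI hmA : mA.IsMaximal := by
    refine Ideal.IsMaximal.map_of_surjective_of_ker_le Ideal.Quotient.mk_surjective ?_
    rw [Ideal.mk_ker]; exact hJp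
  have hresA : Function.Surjective (fun c : k => Ideal.Quotient.mk mA (algebraMap k A c)) := fun z => by
    obtain ⟨z, rfl⟩ := Ideal.Quotient.mk_surjective z
    obtain ⟨y, rfl⟩ := Ideal.Quotient.mk_surjective z
    obtain ⟨c, hc⟩ := hresE y
    refine ⟨c, (Ideal.Quotient.eq.2 ?_).symm⟩
    show Ideal.Quotient.mk J y - Ideal.Quotient.mk J (algebraMap k E c) ∈ mA
    rw [← map_sub]
    exact Ideal.mem_map_of_mem _ hc
  -- the element
  let ηb : Fin V → A := fun v => Ideal.Quotient.mk J (b (Sum.inl (Sum.inl v)))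
  let evA : MvPolynomial (Fin V) k →ₐ[k] A := MvPolynomial.aeval ηb
  have hglA : RingHom.ker ev ≤ RingHom.ker evA := by
    rw [← hkerev]
    refine Submodule.span_le.2 ?_
    rintro _ ⟨l, rfl⟩
    have h1 := hb (Sum.inr l)
    rw [hsys, Sum.elim_inr, sub_eq_zero] at h1
    have h2 := congrArg (Ideal.Quotient.mk J) h1
    rw [MvPolynomial.eval₂_comp_left, map_sum,
      Finset.sum_eq_zero (fun i _ => by
        rw [map_mul, Ideal.Quotient.eq_zero_iff_mem.2 (Ideal.subset_span ⟨i, rfl⟩ : fb i ∈ J), mul_zero])] at h2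
    exact h2
  let h₀ : P₀ →ₐ[k] A := AlgHom.liftOfSurjective ev hev evA hglA
  let η := F.map (CommAlgCat.ofHom h₀) ξ₀
  -- the two maps from polynomials
  let π : P →ₐ[k] R := { G.comp (algebraMap P T) with commutes' := hGC }
  let π' : P →ₐ[k] A := IsScalarTower.toAlgHom k P A
  have hπI : (orig k n).map π.toRingHom = maximalIdeal R := by
    show (orig k n).map (G.comp (algebraMap P T)) = _
    rw [← Ideal.map_map, hMmap, hGm]
  have hπ'I : (orig k n).map π'.toRingHom ≤ mA := Ideal.map_le_iff_le_comap.2 fun a ha =>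
    Ideal.mem_map_of_mem (Ideal.Quotient.mk J) (hIp ha)
  have hsR : ∀ j, ∀ y ∈ maximalIdeal R ^ j, ∃ a ∈ orig k n ^ j, π a - y ∈ maximalIdeal R ^ (j + 1) := by
    intro j y hy
    rw [← hπI, ← Ideal.map_pow] at hy
    induction hy using Submodule.span_induction with
    | mem t ht => obtain ⟨a, ha, rfl⟩ := ht; exact ⟨a, ha, by simp⟩
    | zero => exact ⟨0, zero_mem _, by simp⟩
    | add t t' _ _ h h' =>
      obtain ⟨a, ha, ha'⟩ := h
      obtain ⟨d, hd, hd'⟩ := h'
      exact ⟨a + d, add_mem ha hd, by convert add_mem ha' hd' using 1; rw [map_add]; ring⟩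
    | smul z t ht h =>
      obtain ⟨a, ha, ha'⟩ := h
      obtain ⟨c, hc⟩ := hres (residue R z)
      refine ⟨MvPolynomial.C c * a, Ideal.mul_mem_left _ _ ha, ?_⟩
      have ht' : t ∈ maximalIdeal R ^ j := by
        rw [← hπI, ← Ideal.map_pow]; exact ht
      have h1 : (algebraMap k R c - z) * t ∈ maximalIdeal R ^ (j + 1) := by
        rw [pow_succ']; exact Ideal.mul_mem_mul (Ideal.Quotient.eq.1 hc) ht'
      have := add_mem ((maximalIdeal R ^ (j + 1)).mul_mem_left (algebraMap k R c) ha') h1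
      convert this using 1
      rw [smul_eq_mul, map_mul, show π (MvPolynomial.C c) = algebraMap k R c from π.commutes c]
      ring
  have hsA : ∀ j, ∀ y ∈ mA ^ j, ∃ a ∈ orig k n ^ j, π' a - y ∈ mA ^ (j + 1) := fun j y hy => by
    have hpow : ∀ i, mA ^ i = (p' ^ i).map (Ideal.Quotient.mk J) := fun i => (Ideal.map_pow _ _ i).symm
    rw [hpow] at hy ⊢
    obtain ⟨y, hy', rfl⟩ := (Ideal.mem_map_iff_of_surjective (Ideal.Quotient.mk J) Ideal.Quotient.mk_surjective).1 hy
    obtain ⟨a, ha⟩ := exists_sub_mem_pow (orig k n) (exists_sub_C_mem k n) p' hIp hresE (j + 1) y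
    refine ⟨a, hPinj j a ?_, ?_⟩
    · have h1 := sub_mem (hψpow j y hy') (Ideal.pow_le_pow_right (Nat.le_succ j) (hψpow _ _ ha))
      rwa [map_sub, sub_sub_cancel, ψ.commutes] at h1
    · rw [← neg_sub]
      exact neg_mem (map_sub (Ideal.Quotient.mk J) y _ ▸ Ideal.mem_map_of_mem (Ideal.Quotient.mk J) ha)
  -- membership through the completion
  let fT : Fin q → T := fun i => ψ (fb i)
  have hmemR : ∀ (j : ℕ) (a : P), π a ∈ maximalIdeal R ^ j ↔ algebraMap P T a ∈ Ideal.span (Set.range f) ⊔ M ^ j := by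
    intro j a
    show G (algebraMap P T a) ∈ maximalIdeal R ^ j ↔ _
    rw [← hGm, ← Ideal.map_pow, ← Ideal.mem_comap, Ideal.comap_map_of_surjective _ hGsurj, sup_comm,
      ← RingHom.ker_eq_comap_bot, ← hf]
  have hmemA : ∀ (j : ℕ) (a : P), π' a ∈ mA ^ j ↔ algebraMap P T a ∈ Ideal.span (Set.range fT) ⊔ M ^ j := by
    intro j a
    show Ideal.Quotient.mk J (algebraMap P E a) ∈ mA ^ j ↔ _
    rw [← Ideal.map_pow, ← Ideal.mem_comap, Ideal.comap_map_of_surjective _ Ideal.Quotient.mk_surjective,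
      ← RingHom.ker_eq_comap_bot, Ideal.mk_ker]
    have hJT : J.map ψ.toRingHom = Ideal.span (Set.range fT) := by
      rw [Ideal.map_span, ← Set.range_comp]; rfl
    constructor
    · intro h
      obtain ⟨y, hy, z, hz, hyz⟩ := Submodule.mem_sup.1 h
      have := congrArg ψ hyz
      rw [ψ.commutes, map_add] at this
      exact Submodule.mem_sup.2 ⟨ψ z, hJT ▸ Ideal.mem_map_of_mem _ hz, ψ y, hψpow j y hy, by rw [← this, add_comm]⟩
    · intro h
      obtain ⟨y, hy, z, hz, hyz⟩ := Submodule.mem_sup.1 h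
      obtain ⟨co, rfl⟩ := (Submodule.mem_span_range_iff_exists_fun T).1 hy
      -- approximate the coefficients
      have happ : ∀ t : T, ∃ d : P, t - algebraMap P T d ∈ M ^ j := fun t => by
        obtain ⟨x, hx⟩ := Adic7.exists_sub_algebraMap_mem (maximalIdeal (Loc k n)) hfg t j
        rw [← hmax] at hx
        obtain ⟨d, u, rfl⟩ := IsLocalization.exists_mk'_eq (orig k n).primeCompl x
        obtain ⟨w, z, hz, hwz⟩ := exists_mul_add_eq_one k n (u : P) u.2 j
        refine ⟨d * w, ?_⟩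
        have e : algebraMap (Loc k n) T (IsLocalization.mk' _ d u) - algebraMap P T (d * w) =
            algebraMap (Loc k n) T (IsLocalization.mk' _ d u) * algebraMap P T z := by
          have h2 : algebraMap (Loc k n) T (IsLocalization.mk' _ d u) * algebraMap P T (u : P) = algebraMap P T d := by
            rw [IsScalarTower.algebraMap_apply P (Loc k n) T (u : P), IsScalarTower.algebraMap_apply P (Loc k n) T d,
              ← map_mul, IsLocalization.mk'_spec]
          rw [map_mul, ← h2, mul_assoc, ← map_mul, show (u : P) * w = 1 - z by rw [← hwz]; ring, map_sub, map_one]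
          ring
        have h3 : algebraMap P T z ∈ M ^ j := by
          rw [← hMmap, ← Ideal.map_pow]; exact Ideal.mem_map_of_mem _ hz
        have := add_mem hx ((M ^ j).mul_mem_left (algebraMap (Loc k n) T (IsLocalization.mk' _ d u)) h3)
        rw [← e, sub_add_sub_cancel] at this
        exact this
      choose d hd using fun i => happ (co i)
      refine Submodule.mem_sup.2 ⟨algebraMap P E a - ∑ i, algebraMap P E (d i) * fb i, hψinj j _ ?_,
        ∑ i, algebraMap P E (d i) * fb i, J.sum_mem fun i _ => J.mul_mem_left _ (Ideal.subset_span ⟨i, rfl⟩), by ring⟩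
      rw [map_sub, ψ.commutes, ← hyz, map_sum]
      simp only [map_mul, ψ.commutes, smul_eq_mul]
      rw [add_sub_right_comm, ← Finset.sum_sub_distrib]
      refine add_mem (sum_mem fun i _ => ?_) hz
      rw [← sub_mul]
      exact Ideal.mul_mem_right _ _ ((ψ.commutes (d i)).symm ▸ hd i)
  have heq : ∀ j, ∀ a ∈ orig k n ^ j, (π a ∈ maximalIdeal R ^ (j + 1) ↔ π' a ∈ mA ^ (j + 1)) := fun j a ha => by
    rw [hmemR, hmemA]
    refine hc₀ fT (fun j i => ψ (b (Sum.inr (Sum.inl (j, i))))) (fun j => ?_)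
      (fun i => Ideal.pow_le_pow_right (by omega) (hfψ i))
      (fun j i => Ideal.pow_le_pow_right (by omega) (hbN' (Sum.inr (Sum.inl (j, i))))) j _ ?_
    · have h1 := congrArg ψ (hb (Sum.inl j))
      rw [hsys, Sum.elim_inl, map_sum, map_zero] at h1
      simpa [fT, fb] using h1
    · rw [← hMmap, ← Ideal.map_pow]; exact Ideal.mem_map_of_mem _ ha
  -- the truncations
  have hspan : Ideal.span (Set.range f) ⊔ M ^ (N + 1) = Ideal.span (Set.range fT) ⊔ M ^ (N + 1) := by
    have hd : ∀ i, f i - fT i ∈ M ^ (N + 1) := fun i => Ideal.pow_le_pow_right (by omega) (hfψ i)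
    refine le_antisymm (sup_le (Ideal.span_le.2 ?_) le_sup_right) (sup_le (Ideal.span_le.2 ?_) le_sup_right) <;>
      rintro _ ⟨i, rfl⟩ <;> refine Submodule.mem_sup.2 ?_
    · exact ⟨fT i, Ideal.subset_span ⟨i, rfl⟩, f i - fT i, hd i, by ring⟩
    · exact ⟨f i, Ideal.subset_span ⟨i, rfl⟩, fT i - f i, by simpa using neg_mem (hd i), by ring⟩
  let γ : P →ₐ[k] R ⧸ maximalIdeal R ^ (N + 1) := (Ideal.Quotient.mkₐ k _).comp π
  let γ' : P →ₐ[k] A ⧸ mA ^ (N + 1) := (Ideal.Quotient.mkₐ k _).comp π'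
  have hkerγ : RingHom.ker γ = RingHom.ker γ' := by
    ext a
    rw [RingHom.mem_ker, RingHom.mem_ker]
    exact Ideal.Quotient.eq_zero_iff_mem.trans (((hmemR _ a).trans (hspan ▸ Iff.rfl)).trans
      ((hmemA _ a).symm.trans Ideal.Quotient.eq_zero_iff_mem.symm))
  have hsurjA : Function.Surjective γ' := fun z => by
    obtain ⟨z, rfl⟩ := Ideal.Quotient.mk_surjective z
    obtain ⟨y, rfl⟩ := Ideal.Quotient.mk_surjective z
    obtain ⟨a, ha⟩ := exists_sub_mem_pow (orig k n) (exists_sub_C_mem k n) p' hIp hresE (N + 1) y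
    refine ⟨a, (Ideal.Quotient.eq.2 ?_).symm⟩
    show Ideal.Quotient.mk J y - Ideal.Quotient.mk J (algebraMap P E a) ∈ mA ^ (N + 1)
    rw [← map_sub, ← Ideal.map_pow]
    exact Ideal.mem_map_of_mem _ ha
  have happR : ∀ y : R, ∃ a : P, y - π a ∈ maximalIdeal R ^ (N + 1) := fun y => by
    suffices H : ∀ j, ∃ a : P, y - π a ∈ maximalIdeal R ^ j from H _
    intro j
    induction j with
    | zero => exact ⟨0, by simp⟩
    | succ j ih =>
      obtain ⟨a, ha⟩ := ih
      obtain ⟨d, -, hd⟩ := hsR j _ ha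
      exact ⟨a + d, by rw [map_add, show y - (π a + π d) = -(π d - (y - π a)) by ring]; exact neg_mem hd⟩
  have hsurjR : Function.Surjective γ := fun z => by
    obtain ⟨z, rfl⟩ := Ideal.Quotient.mk_surjective z
    obtain ⟨a, ha⟩ := happR z
    exact ⟨a, (Ideal.Quotient.eq.2 ha).symm⟩
  let φ : (R ⧸ maximalIdeal R ^ (N + 1)) ≃ₐ[k] (A ⧸ mA ^ (N + 1)) :=
    (Ideal.quotientKerAlgEquivOfSurjective hsurjR).symm.trans
      ((Ideal.quotientEquivAlgOfEq k hkerγ).trans (Ideal.quotientKerAlgEquivOfSurjective hsurjA))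
  have hφ : ∀ a, φ (γ a) = γ' a := fun a => by
    show Ideal.quotientKerAlgEquivOfSurjective hsurjA (Ideal.quotientEquivAlgOfEq k hkerγ
      ((Ideal.quotientKerAlgEquivOfSurjective hsurjR).symm (γ a))) = _
    rw [show (Ideal.quotientKerAlgEquivOfSurjective hsurjR).symm (γ a) = Ideal.Quotient.mk _ a from
      (AlgEquiv.symm_apply_eq _).2 rfl]
    rfl
  refine ⟨A, inferInstance, inferInstance, inferInstance, mA, hmA, hresA, η, n, π, π', hπI.le, hπ'I, hsR, hsA, heq,
    φ, hφ, ?_⟩
  have key : (φ.toAlgHom.comp (Ideal.Quotient.mkₐ k (maximalIdeal R ^ (N + 1)))).comp g₀ =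
      (Ideal.Quotient.mkₐ k (mA ^ (N + 1))).comp h₀ := by
    refine AlgHom.ext fun z => ?_
    obtain ⟨w, rfl⟩ := hev z
    have h := MvPolynomial.algHom_ext (σ := Fin V)
      (f := ((φ.toAlgHom.comp (Ideal.Quotient.mkₐ k (maximalIdeal R ^ (N + 1)))).comp g₀).comp ev)
      (g := (Ideal.Quotient.mkₐ k (mA ^ (N + 1))).comp evA) fun v => by
        obtain ⟨a, ha⟩ := exists_sub_mem_pow (orig k n) (exists_sub_C_mem k n) p' hIp hresE (N + 1) (b (Sum.inl (Sum.inl v)))
        have h1 : ηv v - algebraMap P T a ∈ M ^ (N + 1) := by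
          have := add_mem (Ideal.pow_le_pow_right (show N + 1 ≤ Mlev by omega) (hbN' (Sum.inl (Sum.inl v))))
            (hψpow _ _ ha)
          rw [map_sub, ψ.commutes] at this
          simpa [aσ] using this
        have h2 : Ideal.Quotient.mk (maximalIdeal R ^ (N + 1)) (g₀ (ev (MvPolynomial.X v))) = γ a := by
          refine Ideal.Quotient.eq.2 ?_
          rw [← hηv v]
          show G _ - G _ ∈ _
          rw [← map_sub, ← hGm, ← Ideal.map_pow]
          exact Ideal.mem_map_of_mem _ h1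
        show φ (Ideal.Quotient.mk _ (g₀ (ev (MvPolynomial.X v)))) = Ideal.Quotient.mk _ (evA (MvPolynomial.X v))
        rw [h2, hφ, MvPolynomial.aeval_X]
        refine Ideal.Quotient.eq.2 ?_
        show Ideal.Quotient.mk J (algebraMap P E a) - Ideal.Quotient.mk J (b (Sum.inl (Sum.inl v))) ∈ mA ^ (N + 1)
        rw [← map_sub, ← Ideal.map_pow]
        exact Ideal.mem_map_of_mem _ (by simpa using neg_mem ha)
    refine (AlgHom.congr_fun h w).trans ?_
    show _ = Ideal.Quotient.mk _ (h₀ (ev w))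
    rw [AlgHom.liftOfSurjective_apply]
    rfl
  show F.map _ ξ = F.map _ (F.map _ ξ₀)
  rw [← hξ, ← types_comp_apply (F.map _) (F.map _), ← types_comp_apply (F.map _) (F.map (CommAlgCat.ofHom (Ideal.Quotient.mkₐ k _))),
    ← F.map_comp, ← F.map_comp]
  exact congrArg (fun x => F.map (CommAlgCat.ofHom x) ξ₀) key

end Groth.Agent.Alg17
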