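import Mathlib

/-! Small perturbations of an exact pair do not change the initial ideal. -/

set_option autoImplicit false
universe u

namespace Groth.Agent.Alg17

variable {T : Type u} [CommRing T]

theorem mem_smul_top_pi {ι : Type*} [Fintype ι] {I : Ideal T} {a : ι → T} :
    a ∈ I • (⊤ : Submodule T (ι → T)) ↔ ∀ i, a i ∈ I := by
  classical
  refine ⟨fun h i => ?_, fun h => ?_⟩
  · induction h using Submodule.smul_induction_on' with
    | smul r hr x _ => exact I.mul_mem_right _ hr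
    | add x _ y _ hx hy => exact I.add_mem hx hy
  · rw [pi_eq_sum_univ a]
    exact Submodule.sum_mem _ fun i _ => Submodule.smul_mem_smul (h i) trivial

/-- Artin–Rees for a linear map. -/
theorem exists_artinRees [IsNoetherianRing T] (I : Ideal T) {M M' : Type u} [AddCommGroup M] [Module T M]
    [AddCommGroup M'] [Module T M'] [Module.Finite T M'] (g : M →ₗ[T] M') :
    ∃ k, ∀ (n : ℕ) (y : M'), y ∈ LinearMap.range g → y ∈ I ^ n • (⊤ : Submodule T M') →
      ∃ a ∈ I ^ (n - k) • (⊤ : Submodule T M), g a = y := by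
  obtain ⟨k, hk⟩ := I.exists_pow_inf_eq_pow_smul (LinearMap.range g)
  refine ⟨k, fun n y hy hn => ?_⟩
  have h1 : y ∈ I ^ (n - k) • LinearMap.range g := by
    by_cases hnk : k ≤ n
    · have h2 : y ∈ I ^ n • ⊤ ⊓ LinearMap.range g := ⟨hn, hy⟩
      rw [hk n hnk] at h2
      exact Submodule.smul_mono le_rfl inf_le_right h2
    · rw [Nat.sub_eq_zero_of_le (le_of_not_ge hnk), pow_zero, Ideal.one_eq_top, Submodule.top_smul]
      exact hy
  rw [LinearMap.range_eq_map, ← Submodule.map_smul''] at h1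
  exact h1

theorem combination_mem {ι κ : Type*} [Fintype ι] {I J : Ideal T} {a : ι → T} {v : ι → κ → T}
    (ha : ∀ i, a i ∈ I) (hv : ∀ i j, v i j ∈ J) (j : κ) : (∑ i, a i • v i) j ∈ I * J := by
  rw [Finset.sum_apply]
  exact sum_mem fun i _ => Ideal.mul_mem_mul (ha i) (hv i j)

/-- If `f ∘ s = 0` is exact, then every nearby complex `f' ∘ s' = 0` has the same initial ideal. -/
theorem exists_perturb [IsNoetherianRing T] (I : Ideal T) {q p : ℕ} (f : Fin q → T) (s : Fin p → Fin q → T)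
    (hex : ∀ a : Fin q → T, ∑ i, a i * f i = 0 → a ∈ Submodule.span T (Set.range s)) :
    ∃ c, ∀ (f' : Fin q → T) (s' : Fin p → Fin q → T), (∀ j, ∑ i, s' j i * f' i = 0) →
      (∀ i, f i - f' i ∈ I ^ c) → (∀ j i, s j i - s' j i ∈ I ^ c) →
      ∀ (n : ℕ) (x : T), x ∈ I ^ n →
        (x ∈ Ideal.span (Set.range f) ⊔ I ^ (n + 1) ↔ x ∈ Ideal.span (Set.range f') ⊔ I ^ (n + 1)) := by
  classical
  let g₁ := Fintype.linearCombination T f
  let g₂ := Fintype.linearCombination T s
  obtain ⟨k₁, hk₁⟩ := exists_artinRees I g₁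
  obtain ⟨k₂, hk₂⟩ := exists_artinRees I g₂
  refine ⟨k₁ + k₂ + 1, fun f' s' hz hf hs n x hx => ?_⟩
  set c := k₁ + k₂ + 1 with hc
  let h₁ := Fintype.linearCombination T f'
  let h₂ := Fintype.linearCombination T s'
  have hsmul : ∀ (m : ℕ) (y : T), y ∈ I ^ m • (⊤ : Submodule T T) ↔ y ∈ I ^ m := fun m y => by
    rw [smul_eq_mul, Ideal.mul_top]
  have hdiff : ∀ (m : ℕ) (a : Fin q → T), (∀ i, a i ∈ I ^ m) → g₁ a - h₁ a ∈ I ^ (m + c) := fun m a ha => by
    simp only [g₁, h₁, Fintype.linearCombination_apply, smul_eq_mul, ← Finset.sum_sub_distrib, ← mul_sub]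
    rw [pow_add]
    exact sum_mem fun i _ => Ideal.mul_mem_mul (ha i) (hf i)
  have key : ∀ j, j ≤ n - k₁ → ∀ a : Fin q → T, h₁ a ∈ I ^ n → ∃ b, (∀ i, b i ∈ I ^ j) ∧ h₁ b = h₁ a := by
    intro j
    induction j with
    | zero => exact fun _ a _ => ⟨a, fun i => by simp, rfl⟩
    | succ j ih =>
      intro hj a ha
      obtain ⟨b, hb, hba⟩ := ih (Nat.le_of_succ_le hj) a ha
      have h1 : g₁ b ∈ I ^ (j + 1 + k₁) := by
        have h2 := add_mem (Ideal.pow_le_pow_right (show j + 1 + k₁ ≤ j + c by omega) (hdiff j b hb))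
          (Ideal.pow_le_pow_right (show j + 1 + k₁ ≤ n by omega) (hba ▸ ha))
        rwa [sub_add_cancel] at h2
      obtain ⟨b₂, hb₂, hgb⟩ := hk₁ (j + 1 + k₁) (g₁ b) ⟨b, rfl⟩ ((hsmul _ _).2 h1)
      rw [mem_smul_top_pi, Nat.add_sub_cancel] at hb₂
      have hker : b - b₂ ∈ LinearMap.range g₂ := by
        rw [Fintype.range_linearCombination]
        refine hex _ ?_
        have h3 : g₁ (b - b₂) = 0 := by rw [map_sub, hgb, sub_self]
        simpa [g₁, Fintype.linearCombination_apply] using h3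
      have hbb : b - b₂ ∈ I ^ j • (⊤ : Submodule T (Fin q → T)) := mem_smul_top_pi.2 fun i =>
        sub_mem (hb i) (Ideal.pow_le_pow_right (Nat.le_succ j) (hb₂ i))
      obtain ⟨z, hz', hgz⟩ := hk₂ j (b - b₂) hker hbb
      rw [mem_smul_top_pi] at hz'
      refine ⟨b - h₂ z, fun i => ?_, ?_⟩
      · have e : b - h₂ z = b₂ + (g₂ z - h₂ z) := by rw [hgz]; abel
        rw [e]
        refine add_mem (hb₂ i) ?_
        have h4 : g₂ z - h₂ z = ∑ l, z l • (s l - s' l) := by
          simp [g₂, h₂, Fintype.linearCombination_apply, Finset.sum_sub_distrib, smul_sub]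
        rw [h4]
        have h5 := combination_mem hz' (fun l i' => hs l i') (v := fun l => s l - s' l) i
        rw [← pow_add] at h5
        exact Ideal.pow_le_pow_right (by omega) h5
      · have h6 : h₁ (h₂ z) = 0 := by
          rw [Fintype.linearCombination_apply T s', map_sum]
          refine Finset.sum_eq_zero fun l _ => ?_
          rw [map_smul, show h₁ (s' l) = 0 by simpa [h₁, Fintype.linearCombination_apply] using hz l, smul_zero]
        rw [map_sub, h6, sub_zero, hba]
  constructor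
  · intro h
    obtain ⟨y, hy, w, hw, rfl⟩ := Submodule.mem_sup.1 h
    have hyn : y ∈ I ^ n := by
      have := sub_mem hx (Ideal.pow_le_pow_right (Nat.le_succ n) hw)
      rwa [add_sub_cancel_right] at this
    obtain ⟨a, ha, rfl⟩ := hk₁ n y (by rw [Fintype.range_linearCombination]; exact hy) ((hsmul _ _).2 hyn)
    rw [mem_smul_top_pi] at ha
    refine Submodule.mem_sup.2 ⟨h₁ a, ?_, (g₁ a - h₁ a) + w,
      add_mem (Ideal.pow_le_pow_right (by omega) (hdiff _ a ha)) hw, by ring⟩
    exact (Fintype.range_linearCombination T f').le ⟨a, rfl⟩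
  · intro h
    obtain ⟨y, hy, w, hw, rfl⟩ := Submodule.mem_sup.1 h
    have hyn : y ∈ I ^ n := by
      have := sub_mem hx (Ideal.pow_le_pow_right (Nat.le_succ n) hw)
      rwa [add_sub_cancel_right] at this
    obtain ⟨a, rfl⟩ : y ∈ LinearMap.range h₁ := by rw [Fintype.range_linearCombination]; exact hy
    obtain ⟨b, hb, hba⟩ := key (n - k₁) le_rfl a hyn
    rw [← hba]
    refine Submodule.mem_sup.2 ⟨g₁ b, ?_, w - (g₁ b - h₁ b),
      sub_mem hw (Ideal.pow_le_pow_right (by omega) (hdiff _ b hb)), by ring⟩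
    exact (Fintype.range_linearCombination T f).le ⟨b, rfl⟩

end Groth.Agent.Alg17
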