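import Groth.Agent.Alg17.Core
import Mathlib

/-! Versal elements algebraize. -/

set_option autoImplicit false
universe u

namespace Groth.Agent.Alg17

open IsLocalRing CategoryTheory CategoryTheory.Limits

variable {k : Type u} [Field k] {n : ℕ}

section Dim

variable {B : Type u} [CommRing B] [Algebra k B] (π : MvPolynomial (Fin n) k →ₐ[k] B) (m : Ideal B)

/-- The class of an element of degree `j`. -/
noncomputable def piece (j : ℕ) :
    (orig k n ^ j).restrictScalars k →ₗ[k] B ⧸ m ^ (j + 1) :=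
  ((Ideal.Quotient.mkₐ k (m ^ (j + 1))).toLinearMap.comp π.toLinearMap).comp
    ((orig k n ^ j).restrictScalars k).subtype

variable {π m}

theorem finite_range_piece (hI : (orig k n).map π.toRingHom ≤ m) (j : ℕ) :
    Module.Finite k (LinearMap.range (piece π m j)) := by
  classical
  obtain ⟨s, hs⟩ := (IsNoetherian.noetherian (orig k n ^ j) : (orig k n ^ j).FG)
  refine Module.Finite.iff_fg.2 ?_
  refine ⟨s.attach.image (fun g => piece π m j ⟨g.1, hs ▸ Submodule.subset_span g.2⟩), le_antisymm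
    (Submodule.span_le.2 fun y hy => ?_) ?_⟩
  · obtain ⟨g, -, rfl⟩ := Finset.mem_image.1 (Finset.mem_coe.1 hy)
    exact ⟨_, rfl⟩
  · rintro _ ⟨⟨a, ha⟩, rfl⟩
    have ha' : a ∈ Submodule.span (MvPolynomial (Fin n) k) (s : Set (MvPolynomial (Fin n) k)) := hs.symm ▸ ha
    obtain ⟨c, rfl⟩ := Submodule.mem_span_finset'.1 ha'
    have e : piece π m j ⟨_, ha⟩ = ∑ g : s, MvPolynomial.constantCoeff (c g) •
        piece π m j ⟨g.1, hs ▸ Submodule.subset_span g.2⟩ := by
      simp only [piece, LinearMap.comp_apply, Submodule.coe_subtype, AlgHom.toLinearMap_apply,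
        map_sum]
      refine Finset.sum_congr rfl fun g _ => ?_
      show Ideal.Quotient.mk (m ^ (j + 1)) (π (c g * g)) = _
      rw [← map_smul (Ideal.Quotient.mkₐ k (m ^ (j + 1))), ← map_smul π]
      refine Ideal.Quotient.eq.2 ?_
      rw [← map_sub]
      have h1 : c g * g - MvPolynomial.constantCoeff (c g) • g.1 ∈ orig k n ^ (j + 1) := by
        rw [Algebra.smul_def, ← sub_mul, pow_succ']
        exact Ideal.mul_mem_mul (by simp [orig, MvPolynomial.algebraMap_eq]) (hs ▸ Submodule.subset_span g.2)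
      exact Ideal.pow_right_mono hI (j + 1) ((Ideal.map_pow π.toRingHom _ _).le (Ideal.mem_map_of_mem _ h1))
    rw [e]
    exact Submodule.sum_mem _ fun g _ => Submodule.smul_mem _ _
      (Submodule.subset_span (Finset.mem_coe.2 (Finset.mem_image_of_mem _ (Finset.mem_attach _ _))))

theorem range_piece (hI : (orig k n).map π.toRingHom ≤ m)
    (hs : ∀ j, ∀ b ∈ m ^ j, ∃ a ∈ orig k n ^ j, π a - b ∈ m ^ (j + 1)) (j : ℕ) :
    LinearMap.range (piece π m j) =
      LinearMap.ker (Ideal.Quotient.factorₐ k (Ideal.pow_le_pow_right (Nat.le_succ j) : m ^ (j + 1) ≤ m ^ j)).toLinearMap := by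
  ext y
  constructor
  · rintro ⟨⟨a, ha⟩, rfl⟩
    show Ideal.Quotient.mk (m ^ j) (π a) = 0
    exact Ideal.Quotient.eq_zero_iff_mem.2
      (Ideal.pow_right_mono hI j ((Ideal.map_pow π.toRingHom _ _).le (Ideal.mem_map_of_mem _ ha)))
  · intro hy
    obtain ⟨b, rfl⟩ := Ideal.Quotient.mk_surjective y
    obtain ⟨a, ha, hab⟩ := hs j b (Ideal.Quotient.eq_zero_iff_mem.1 hy)
    exact ⟨⟨a, ha⟩, Ideal.Quotient.eq.2 hab⟩

theorem finite_quotient (hI : (orig k n).map π.toRingHom ≤ m)
    (hs : ∀ j, ∀ b ∈ m ^ j, ∃ a ∈ orig k n ^ j, π a - b ∈ m ^ (j + 1)) (j : ℕ) :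
    Module.Finite k (B ⧸ m ^ j) := by
  induction j with
  | zero =>
    haveI : Subsingleton (B ⧸ m ^ 0) := Ideal.Quotient.subsingleton_iff.2 (by simp)
    exact Module.Finite.of_fg_top ⟨∅, Subsingleton.elim _ _⟩
  | succ j ih =>
    let f := (Ideal.Quotient.factorₐ k (Ideal.pow_le_pow_right (Nat.le_succ j) : m ^ (j + 1) ≤ m ^ j)).toLinearMap
    haveI : Module.Finite k (LinearMap.ker f) := range_piece hI hs j ▸ finite_range_piece hI j
    haveI : Module.Finite k ((B ⧸ m ^ (j + 1)) ⧸ LinearMap.ker f) :=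
      Module.Finite.equiv (f.quotKerEquivOfSurjective (Ideal.Quotient.factor_surjective (Ideal.pow_le_pow_right (Nat.le_succ j)))).symm
    exact Module.Finite.of_submodule_quotient (LinearMap.ker f)

theorem finrank_quotient_succ (hI : (orig k n).map π.toRingHom ≤ m)
    (hs : ∀ j, ∀ b ∈ m ^ j, ∃ a ∈ orig k n ^ j, π a - b ∈ m ^ (j + 1)) (j : ℕ) :
    Module.finrank k (B ⧸ m ^ (j + 1)) = Module.finrank k (B ⧸ m ^ j) +
      Module.finrank k (LinearMap.range (piece π m j)) := by
  haveI := finite_quotient hI hs (j + 1)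
  let f := (Ideal.Quotient.factorₐ k (Ideal.pow_le_pow_right (Nat.le_succ j) : m ^ (j + 1) ≤ m ^ j)).toLinearMap
  have h := f.finrank_range_add_finrank_ker
  rw [LinearMap.range_eq_top.2 (Ideal.Quotient.factor_surjective (Ideal.pow_le_pow_right (Nat.le_succ j))), finrank_top, ← range_piece hI hs j] at h
  exact h.symm

end Dim

/-- Equal graded kernels give equal dimensions. -/
theorem finrank_eq {B C : Type u} [CommRing B] [Algebra k B] [CommRing C] [Algebra k C]
    {π : MvPolynomial (Fin n) k →ₐ[k] B} {π' : MvPolynomial (Fin n) k →ₐ[k] C} {m : Ideal B} {m' : Ideal C}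
    (hI : (orig k n).map π.toRingHom ≤ m) (hI' : (orig k n).map π'.toRingHom ≤ m')
    (hs : ∀ j, ∀ b ∈ m ^ j, ∃ a ∈ orig k n ^ j, π a - b ∈ m ^ (j + 1))
    (hs' : ∀ j, ∀ b ∈ m' ^ j, ∃ a ∈ orig k n ^ j, π' a - b ∈ m' ^ (j + 1))
    (heq : ∀ j, ∀ a ∈ orig k n ^ j, (π a ∈ m ^ (j + 1) ↔ π' a ∈ m' ^ (j + 1))) (j : ℕ) :
    Module.finrank k (B ⧸ m ^ j) = Module.finrank k (C ⧸ m' ^ j) := by
  induction j with
  | zero =>
    haveI : Subsingleton (B ⧸ m ^ 0) := Ideal.Quotient.subsingleton_iff.2 (by simp)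
    haveI : Subsingleton (C ⧸ m' ^ 0) := Ideal.Quotient.subsingleton_iff.2 (by simp)
    rw [Module.finrank_zero_of_subsingleton, Module.finrank_zero_of_subsingleton]
  | succ j ih =>
    rw [finrank_quotient_succ hI hs, finrank_quotient_succ hI' hs', ih]
    congr 1
    have hk : LinearMap.ker (piece π m j) = LinearMap.ker (piece π' m' j) := by
      ext ⟨a, ha⟩
      exact Ideal.Quotient.eq_zero_iff_mem.trans ((heq j a ha).trans Ideal.Quotient.eq_zero_iff_mem.symm)
    exact ((piece π m j).quotKerEquivRange.symm ≪≫ₗ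
      Submodule.quotEquivOfEq _ _ hk ≪≫ₗ (piece π' m' j).quotKerEquivRange).finrank_eq

/-- Surjections onto all truncations with kernels the powers of the maximal ideal give the completion. -/
theorem exists_equiv_completion {R A : Type u} [CommRing R] [Algebra k R] [IsLocalRing R] [IsNoetherianRing R]
    [IsAdicComplete (maximalIdeal R) R] [CommRing A] [Algebra k A] (m : Ideal A) (f : ∀ i, R →ₐ[k] A ⧸ m ^ i)
    (hfcomp : ∀ {a b : ℕ} (hab : a ≤ b),
      (Ideal.Quotient.factorₐ k (Ideal.pow_le_pow_right hab)).comp (f b) = f a)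
    (hfsurj : ∀ i, Function.Surjective (f i)) (hfker : ∀ i, maximalIdeal R ^ i ≤ RingHom.ker (f i))
    (hfinj : ∀ i r, f i r = 0 → r ∈ maximalIdeal R ^ i) :
    ∃ α : R ≃+* AdicCompletion m A, (∀ i r, AdicCompletion.evalₐ m i (α r) = f i r) ∧
      ∀ c : k, α (algebraMap k R c) = algebraMap A (AdicCompletion m A) (algebraMap k A c) := by
  let α₀ : R →ₐ[k] AdicCompletion m A := AdicCompletion.liftAlgHom m f hfcomp
  have hα₀ : ∀ i r, AdicCompletion.evalₐ m i (α₀ r) = f i r := fun i r =>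
    AdicCompletion.evalₐ_liftRingHom m (fun i => (f i).toRingHom)
      (fun hle => RingHom.ext fun x => AlgHom.congr_fun (hfcomp hle) x) i r
  have hbij : Function.Bijective α₀ := by
    refine ⟨(injective_iff_map_eq_zero α₀).2 fun r hr => ?_, fun x => ?_⟩
    · refine IsHausdorff.haus (inferInstance : IsHausdorff (maximalIdeal R) R) r fun i => ?_
      rw [SModEq.zero, smul_eq_mul, Ideal.mul_top]
      exact hfinj i r (by rw [← hα₀, hr, map_zero])
    · choose r hr using fun i => hfsurj i (AdicCompletion.evalₐ m i x)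
      have hcauchy : ∀ {a b : ℕ}, a ≤ b → r a ≡ r b [SMOD (maximalIdeal R ^ a • ⊤ : Submodule R R)] := by
        intro a b hab
        rw [SModEq.sub_mem, smul_eq_mul, Ideal.mul_top]
        refine hfinj a _ ?_
        rw [map_sub, hr, ← hfcomp hab, AlgHom.comp_apply, hr, sub_eq_zero]
        obtain ⟨z, rfl⟩ := AdicCompletion.mk_surjective m A x
        rw [AdicCompletion.evalₐ_mk, AdicCompletion.evalₐ_mk]
        refine Ideal.Quotient.eq.2 ?_
        have := z.2 hab
        rwa [SModEq.sub_mem, smul_eq_mul, Ideal.mul_top] at this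
      obtain ⟨L, hL⟩ := IsPrecomplete.prec (inferInstance : IsPrecomplete (maximalIdeal R) R) hcauchy
      refine ⟨L, AdicCompletion.ext_evalₐ fun i => ?_⟩
      rw [hα₀, ← hr i]
      have := hL i
      rw [SModEq.sub_mem, smul_eq_mul, Ideal.mul_top] at this
      have h1 := hfker i this
      rw [RingHom.mem_ker, map_sub, sub_eq_zero] at h1
      exact h1.symm
  exact ⟨RingEquiv.ofBijective α₀.toRingHom hbij, hα₀, fun c => α₀.commutes c⟩

/-- A compatible system agreeing with `φ` modulo squares is bijective on every truncation. -/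
theorem system_props {R A : Type u} [CommRing R] [Algebra k R] [IsLocalRing R] [CommRing A] [Algebra k A]
    {m : Ideal A} [m.IsMaximal] (hresA : Function.Surjective (fun c : k => Ideal.Quotient.mk m (algebraMap k A c)))
    {π : MvPolynomial (Fin n) k →ₐ[k] R} {π' : MvPolynomial (Fin n) k →ₐ[k] A}
    (hI : (orig k n).map π.toRingHom ≤ maximalIdeal R) (hI' : (orig k n).map π'.toRingHom ≤ m)
    (hs : ∀ j, ∀ b ∈ maximalIdeal R ^ j, ∃ a ∈ orig k n ^ j, π a - b ∈ maximalIdeal R ^ (j + 1))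
    (hs' : ∀ j, ∀ b ∈ m ^ j, ∃ a ∈ orig k n ^ j, π' a - b ∈ m ^ (j + 1))
    (heq : ∀ j, ∀ a ∈ orig k n ^ j, (π a ∈ maximalIdeal R ^ (j + 1) ↔ π' a ∈ m ^ (j + 1)))
    (φ : (R ⧸ maximalIdeal R ^ 2) →ₐ[k] A ⧸ m ^ 2)
    (hφ : ∀ a, φ (Ideal.Quotient.mk _ (π a)) = Ideal.Quotient.mk _ (π' a))
    (f : ∀ i, R →ₐ[k] A ⧸ m ^ i)
    (hfcomp : ∀ {a b : ℕ} (hab : a ≤ b),
      (Ideal.Quotient.factorₐ k (Ideal.pow_le_pow_right hab)).comp (f b) = f a)
    (hf2 : ∀ r, f 2 r = φ (Ideal.Quotient.mk _ r)) :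
    (∀ i, Function.Surjective (f i)) ∧ (∀ i, maximalIdeal R ^ i ≤ RingHom.ker (f i)) ∧
      ∀ i r, f i r = 0 → r ∈ maximalIdeal R ^ i := by
  have hfin : ∀ j, Module.Finite k (A ⧸ m ^ j) := finite_quotient hI' hs'
  have hfker : ∀ i, maximalIdeal R ^ i ≤ RingHom.ker (f i) := fun i => by
    rcases Nat.eq_zero_or_pos i with rfl | hi
    · intro r _
      haveI : Subsingleton (A ⧸ m ^ 0) := Ideal.Quotient.subsingleton_iff.2 (by simp)
      exact Subsingleton.elim _ _
    have hmR : maximalIdeal R ≤ (m.map (Ideal.Quotient.mk (m ^ i))).comap (f i) := fun r hr => by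
      obtain ⟨y, hy⟩ := Ideal.Quotient.mk_surjective (f i r)
      rw [Ideal.mem_comap]
      rw [← hy]
      refine Ideal.mem_map_of_mem _ ?_
      have h1 : f 1 r = Ideal.Quotient.mk (m ^ 1) y := by
        rw [← hfcomp hi, AlgHom.comp_apply, ← hy]; rfl
      obtain ⟨a, ha, hra⟩ := hs 1 r (by rwa [pow_one])
      rw [pow_one] at ha
      have h2 : f 1 r = Ideal.Quotient.mk (m ^ 1) (π' a) := by
        rw [← hfcomp one_le_two, AlgHom.comp_apply, hf2, ← Ideal.Quotient.eq.2 hra, hφ]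
        rfl
      have h4 := Ideal.Quotient.eq.1 (h1.symm.trans h2)
      rw [pow_one] at h4
      simpa using add_mem h4 (hI' (Ideal.mem_map_of_mem _ ha))
    intro r hr
    have h1 := Ideal.pow_right_mono hmR i hr
    have h2 : (m.map (Ideal.Quotient.mk (m ^ i))).comap (f i) ^ i ≤ ((m.map (Ideal.Quotient.mk (m ^ i))) ^ i).comap (f i) :=
      Ideal.le_comap_pow _ i
    have h3 : f i r ∈ (m.map (Ideal.Quotient.mk (m ^ i))) ^ i := h2 h1
    rwa [← Ideal.map_pow, Ideal.map_quotient_self, Ideal.mem_bot] at h3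
  have hfpow : ∀ i, ∀ y ∈ m ^ i, ∀ j, ∃ r ∈ maximalIdeal R ^ i, ∃ y', f j r = Ideal.Quotient.mk (m ^ j) y' ∧
      y' - y ∈ m ^ (i + 1) := by
    intro i
    induction i with
    | zero =>
      intro y _ j
      obtain ⟨c, hc⟩ := hresA (Ideal.Quotient.mk m y)
      exact ⟨algebraMap k R c, by simp, algebraMap k A c, (f j).commutes c, by simpa using Ideal.Quotient.eq.1 hc⟩
    | succ i ih =>
      intro y hy j
      rw [pow_succ] at hy
      induction hy using Submodule.mul_induction_on' with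
      | mem_mul_mem y hy z hz =>
        obtain ⟨r, hr, y', hy', hyy⟩ := ih y hy j
        obtain ⟨a, ha, haz⟩ := hs' 1 z (by rwa [pow_one])
        rw [pow_one] at ha
        obtain ⟨z', hz', hz2⟩ : ∃ z', Ideal.Quotient.mk (m ^ j) z' = f j (π a) ∧ z' - π' a ∈ m ^ 2 := by
          rcases le_total j 2 with h | h
          · refine ⟨π' a, ?_, by simp⟩
            rw [← hfcomp h, AlgHom.comp_apply, hf2, hφ]
            rfl
          · obtain ⟨z', hz'⟩ := Ideal.Quotient.mk_surjective (f j (π a))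
            refine ⟨z', hz', ?_⟩
            have h1 := congrArg (Ideal.Quotient.factor (Ideal.pow_le_pow_right h : m ^ j ≤ m ^ 2)) hz'
            rw [Ideal.Quotient.factor_mk] at h1
            exact Ideal.Quotient.eq.1 (h1.trans ((AlgHom.congr_fun (hfcomp h) (π a)).trans ((hf2 _).trans (hφ a))))
        refine ⟨r * π a, Ideal.mul_mem_mul hr (hI (Ideal.mem_map_of_mem _ ha)), y' * z',
          by rw [map_mul, hy', ← hz', map_mul], ?_⟩
        have hzz : z' - z ∈ m ^ 2 := by
          have := add_mem hz2 haz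
          rwa [sub_add_sub_cancel] at this
        have hz'm : z' ∈ m := by
          have := add_mem (Ideal.pow_le_self two_ne_zero hzz) hz
          rwa [sub_add_cancel] at this
        have e : y' * z' - y * z = (y' - y) * z' + y * (z' - z) := by ring
        rw [e]
        refine add_mem ?_ ?_
        · rw [pow_succ]; exact Ideal.mul_mem_mul hyy hz'm
        · rw [show i + 1 + 1 = i + 2 by rfl, pow_add]; exact Ideal.mul_mem_mul hy hzz
      | add y _ z _ hy hz =>
        obtain ⟨r, hr, y', hy', hyy⟩ := hy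
        obtain ⟨s, hs, z', hz', hzz⟩ := hz
        exact ⟨r + s, add_mem hr hs, y' + z', by rw [map_add, hy', hz', map_add], by
          convert add_mem hyy hzz using 1; ring⟩
  have hfsurj : ∀ i, Function.Surjective (f i) := fun j z => by
    obtain ⟨y, rfl⟩ := Ideal.Quotient.mk_surjective z
    suffices H : ∀ i, ∃ r, ∃ y', f j r = Ideal.Quotient.mk (m ^ j) y' ∧ y' - y ∈ m ^ i by
      obtain ⟨r, y', h1, h2⟩ := H j
      exact ⟨r, h1.trans (Ideal.Quotient.eq.2 h2)⟩
    intro i
    induction i with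
    | zero => exact ⟨0, 0, by simp, by simp⟩
    | succ i ih =>
      obtain ⟨r, y', h1, h2⟩ := ih
      obtain ⟨s, -, z, hz1, hz2⟩ := hfpow i (y - y') (by simpa using neg_mem h2) j
      exact ⟨r + s, y' + z, by rw [map_add, h1, hz1, map_add], by convert hz2 using 1; ring⟩
  have hfinj : ∀ i r, f i r = 0 → r ∈ maximalIdeal R ^ i := fun i r hr => by
    let fbar : (R ⧸ maximalIdeal R ^ i) →ₗ[k] A ⧸ m ^ i :=
      (Ideal.Quotient.liftₐ _ (f i) fun a ha => hfker i ha).toLinearMap
    haveI := finite_quotient hI hs i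
    haveI := hfin i
    have hsurj : Function.Surjective fbar := fun z => by
      obtain ⟨r, rfl⟩ := hfsurj i z
      exact ⟨Ideal.Quotient.mk _ r, rfl⟩
    have hinj := (LinearMap.injective_iff_surjective_of_finrank_eq_finrank (finrank_eq hI hI' hs hs' heq i)).2 hsurj
    exact Ideal.Quotient.eq_zero_iff_mem.1 (hinj ((show fbar (Ideal.Quotient.mk _ r) = 0 from hr).trans (map_zero _).symm))
  exact ⟨hfsurj, hfker, hfinj⟩

/-- Factoring quotient maps. -/
theorem factorₐ_comp_mkₐ {A : Type u} [CommRing A] [Algebra k A] {I J : Ideal A} (h : I ≤ J) :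
    (Ideal.Quotient.factorₐ k h).comp (Ideal.Quotient.mkₐ k I) = Ideal.Quotient.mkₐ k J :=
  AlgHom.ext fun _ => rfl

/-- Factoring twice. -/
theorem factorₐ_comp_factorₐ {A : Type u} [CommRing A] [Algebra k A] {I J L : Ideal A} (h : I ≤ J) (h' : J ≤ L) :
    (Ideal.Quotient.factorₐ k h').comp (Ideal.Quotient.factorₐ k h) = Ideal.Quotient.factorₐ k (h.trans h') :=
  AlgHom.ext fun z => by
    obtain ⟨z, rfl⟩ := Ideal.Quotient.mk_surjective z
    rfl

theorem factorₐ_self {A : Type u} [CommRing A] [Algebra k A] {I : Ideal A} (h : I ≤ I) :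
    Ideal.Quotient.factorₐ k h = AlgHom.id k (A ⧸ I) :=
  AlgHom.ext fun z => by
    obtain ⟨z, rfl⟩ := Ideal.Quotient.mk_surjective z
    rfl

/-- Pushing a compatibility along a further quotient. -/
theorem map_factor (F : CommAlgCat.{u} k ⥤ Type u) {R A : Type u} [CommRing R] [Algebra k R] [CommRing A]
    [Algebra k A] {I J : Ideal A} (h : I ≤ J) (g : R →ₐ[k] A ⧸ I) (ξ : F.obj (CommAlgCat.of k R))
    (η : F.obj (CommAlgCat.of k A))
    (hg : F.map (CommAlgCat.ofHom g) ξ = F.map (CommAlgCat.ofHom (Ideal.Quotient.mkₐ k I)) η) :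
    F.map (CommAlgCat.ofHom ((Ideal.Quotient.factorₐ k h).comp g)) ξ =
      F.map (CommAlgCat.ofHom (Ideal.Quotient.mkₐ k J)) η := by
  rw [← factorₐ_comp_mkₐ h, show CommAlgCat.ofHom ((Ideal.Quotient.factorₐ k h).comp g) =
      CommAlgCat.ofHom g ≫ CommAlgCat.ofHom (Ideal.Quotient.factorₐ k h) from rfl,
    show CommAlgCat.ofHom ((Ideal.Quotient.factorₐ k h).comp (Ideal.Quotient.mkₐ k I)) =
      CommAlgCat.ofHom (Ideal.Quotient.mkₐ k I) ≫ CommAlgCat.ofHom (Ideal.Quotient.factorₐ k h) from rfl,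
    F.map_comp, F.map_comp, types_comp_apply, types_comp_apply, hg]

theorem map_factor_mk (F : CommAlgCat.{u} k ⥤ Type u) {A : Type u} [CommRing A]
    [Algebra k A] {I J : Ideal A} (h : I ≤ J) (η : F.obj (CommAlgCat.of k A)) :
    F.map (CommAlgCat.ofHom (Ideal.Quotient.factorₐ k h)) (F.map (CommAlgCat.ofHom (Ideal.Quotient.mkₐ k I)) η) =
      F.map (CommAlgCat.ofHom (Ideal.Quotient.mkₐ k J)) η := by
  rw [← types_comp_apply (F.map _) (F.map _), ← F.map_comp, ← factorₐ_comp_mkₐ h]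
  rfl

set_option maxHeartbeats 800000 in
/-- Algebraization of a versal element. -/
theorem exists_algebraization (k : Type u) [Field k] (F : CommAlgCat.{u} k ⥤ Type u)
    (hF : ∀ (J : Type u) [SmallCategory J] [IsFiltered J], PreservesColimitsOfShape J F)
    (R : Type u) [CommRing R] [Algebra k R] [IsLocalRing R] [IsNoetherianRing R]
    [IsAdicComplete (maximalIdeal R) R]
    (hres : Function.Surjective (fun c : k => residue R (algebraMap k R c)))
    (ξ : F.obj (CommAlgCat.of k R))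
    (hvers : ∀ (B B₀ : Type u) [CommRing B] [Algebra k B] [IsLocalRing B] [IsArtinianRing B]
        [CommRing B₀] [Algebra k B₀] [IsLocalRing B₀] [IsArtinianRing B₀],
        Function.Surjective (fun c : k => IsLocalRing.residue B (algebraMap k B c)) →
        ∀ (π : B →ₐ[k] B₀), Function.Surjective π →
          ∀ (g₀ : R →ₐ[k] B₀) (y : F.obj (CommAlgCat.of k B)),
            F.map (CommAlgCat.ofHom π) y = F.map (CommAlgCat.ofHom g₀) ξ →
              ∃ g : R →ₐ[k] B, π.comp g = g₀ ∧ F.map (CommAlgCat.ofHom g) ξ = y) :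
    ∃ (A : Type u) (_ : CommRing A) (_ : Algebra k A) (_ : Algebra.FiniteType k A)
      (m : Ideal A) (_ : m.IsMaximal)
      (_ : Function.Surjective (fun c : k => Ideal.Quotient.mk m (algebraMap k A c)))
      (η : F.obj (CommAlgCat.of k A))
      (α : R ≃+* AdicCompletion m A),
      (∀ c : k, α (algebraMap k R c) = algebraMap A (AdicCompletion m A) (algebraMap k A c)) ∧
      ∀ (n : ℕ) (ψ : R →ₐ[k] A ⧸ m ^ (n + 1)),
        ψ.toRingHom = (AdicCompletion.evalₐ m (n + 1) :
            AdicCompletion m A →ₐ[A] A ⧸ m ^ (n + 1)).toRingHom.comp α.toRingHom →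
          F.map (CommAlgCat.ofHom ψ) ξ = F.map (CommAlgCat.ofHom (Ideal.Quotient.mkₐ k (m ^ (n + 1)))) η := by
  obtain ⟨A, _, _, hft, m, hm, hresA, η, n, π, π', hI, hI', hs, hs', heq, φ, hφ, hη⟩ :=
    exists_approximation k F hF R hres ξ 1
  -- the truncations
  have hle : ∀ j, m ^ (j + 1) ≤ m := fun j => Ideal.pow_le_self (Nat.succ_ne_zero j)
  have hloc : ∀ j, IsLocalRing (A ⧸ m ^ (j + 1)) := fun j => by
    haveI : Nontrivial (A ⧸ m ^ (j + 1)) :=
      Ideal.Quotient.nontrivial_iff.2 (ne_top_of_le_ne_top hm.ne_top (hle j))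
    refine IsLocalRing.of_unique_max_ideal ⟨m.map (Ideal.Quotient.mk _), Ideal.IsMaximal.map_of_surjective_of_ker_le
      Ideal.Quotient.mk_surjective (by rw [Ideal.mk_ker]; exact hle j), fun M hM => ?_⟩
    haveI := hM.isPrime.comap (Ideal.Quotient.mk (m ^ (j + 1)))
    have h1 : m ≤ M.comap (Ideal.Quotient.mk _) := Ideal.IsPrime.le_of_pow_le (n := j + 1) fun x hx => by
      show Ideal.Quotient.mk _ x ∈ M
      rw [Ideal.Quotient.eq_zero_iff_mem.2 hx]; exact M.zero_mem
    exact ((Ideal.map_comap_of_surjective _ Ideal.Quotient.mk_surjective M).symm.trans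
      (congrArg (Ideal.map _) (hm.eq_of_le (Ideal.IsPrime.ne_top ‹_›) h1).symm))
  have hfin : ∀ j, Module.Finite k (A ⧸ m ^ j) := finite_quotient hI' hs'
  haveI hart : ∀ j, IsArtinianRing (A ⧸ m ^ j) := fun j => by
    haveI := hfin j
    exact IsArtinianRing.of_finite k _
  have hresj : ∀ j, haveI := hloc j
      Function.Surjective (fun c : k => residue (A ⧸ m ^ (j + 1)) (algebraMap k _ c)) := fun j => by
    haveI := hloc j
    intro z
    obtain ⟨z, rfl⟩ := Ideal.Quotient.mk_surjective z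
    obtain ⟨y, rfl⟩ := Ideal.Quotient.mk_surjective z
    obtain ⟨c, hc⟩ := hresA (Ideal.Quotient.mk m y)
    refine ⟨c, Ideal.Quotient.eq.2 ?_⟩
    intro hu
    have h2 := hu.map (Ideal.Quotient.factor (hle j))
    rw [← Ideal.Quotient.mk_algebraMap, ← map_sub, Ideal.Quotient.factor_mk,
      Ideal.Quotient.eq_zero_iff_mem.2 (Ideal.Quotient.eq.1 hc)] at h2
    haveI : Nontrivial (A ⧸ m) := Ideal.Quotient.nontrivial_iff.2 hm.ne_top
    exact not_isUnit_zero h2
  -- the compatible system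
  let mk' : ∀ i, A →ₐ[k] A ⧸ m ^ i := fun i => Ideal.Quotient.mkₐ k (m ^ i)
  let Good : ℕ → Type u := fun j => {g : R →ₐ[k] A ⧸ m ^ (j + 2) //
    F.map (CommAlgCat.ofHom g) ξ = F.map (CommAlgCat.ofHom (mk' (j + 2))) η}
  let red : ∀ j, (A ⧸ m ^ (j + 3)) →ₐ[k] A ⧸ m ^ (j + 2) := fun j =>
    Ideal.Quotient.factorₐ k (Ideal.pow_le_pow_right (Nat.le_succ (j + 2)))
  have hstep : ∀ j (g : Good j), ∃ g' : Good (j + 1), (red j).comp g'.1 = g.1 := fun j g => by
    haveI := hloc (j + 2)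
    haveI := hloc (j + 1)
    obtain ⟨g', hg', hg'η⟩ := hvers (A ⧸ m ^ (j + 3)) (A ⧸ m ^ (j + 2)) (hresj (j + 2)) (red j)
      (Ideal.Quotient.factor_surjective (Ideal.pow_le_pow_right (Nat.le_succ (j + 2)))) g.1 (F.map (CommAlgCat.ofHom (mk' (j + 3))) η) (by
        rw [g.2]
        exact map_factor_mk F _ η)
    exact ⟨⟨g', hg'η⟩, hg'⟩
  choose next hnext using hstep
  obtain ⟨g, hg0, hg⟩ : ∃ g : ∀ j, Good j, (g 0).1 = φ.toAlgHom.comp (Ideal.Quotient.mkₐ k _) ∧
      ∀ j, (red j).comp (g (j + 1)).1 = (g j).1 :=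
    ⟨Nat.rec ⟨φ.toAlgHom.comp (Ideal.Quotient.mkₐ k _), hη⟩ fun j gj => next j gj, rfl, fun j => hnext j _⟩
  have hg' : ∀ a b (hab : a ≤ b),
      (Ideal.Quotient.factorₐ k (Ideal.pow_le_pow_right (Nat.add_le_add_right hab 2))).comp (g b).1 = (g a).1 := by
    intro a b hab
    induction b, hab using Nat.le_induction with
    | base => rw [factorₐ_self, AlgHom.id_comp]
    | succ b hab ih => rw [← ih, ← hg b, ← AlgHom.comp_assoc, factorₐ_comp_factorₐ]
  let f : ∀ i, R →ₐ[k] A ⧸ m ^ i := fun i =>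
    (Ideal.Quotient.factorₐ k (Ideal.pow_le_pow_right (show i ≤ i + 2 by omega))).comp (g i).1
  have hfg : ∀ (i a : ℕ) (hia : i ≤ a + 2),
      (Ideal.Quotient.factorₐ k (Ideal.pow_le_pow_right hia)).comp (g a).1 = f i := by
    intro i a hia
    rcases le_total i a with h | h
    · show _ = (Ideal.Quotient.factorₐ k _).comp (g i).1
      rw [← hg' i a h, ← AlgHom.comp_assoc]
      rw [factorₐ_comp_factorₐ]
    · show _ = (Ideal.Quotient.factorₐ k _).comp (g i).1
      rw [← hg' a i h, ← AlgHom.comp_assoc]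
      rw [factorₐ_comp_factorₐ]
  have hfcomp : ∀ {a b : ℕ} (hab : a ≤ b),
      (Ideal.Quotient.factorₐ k (Ideal.pow_le_pow_right hab)).comp (f b) = f a := fun {a b} hab => by
    show (Ideal.Quotient.factorₐ k _).comp ((Ideal.Quotient.factorₐ k _).comp (g b).1) = _
    rw [← AlgHom.comp_assoc]
    rw [factorₐ_comp_factorₐ]
    exact hfg a b (by omega)
  -- compatibility with the first order
  have hf2 : ∀ r, f 2 r = φ (Ideal.Quotient.mk _ r) := fun r => by
    rw [← hfg 2 0 le_rfl, hg0, factorₐ_self]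
    rfl
  obtain ⟨hfsurj, hfker, hfinj⟩ := system_props hresA hI hI' hs hs' heq φ.toAlgHom hφ f (fun hab => hfcomp hab) hf2
  -- the isomorphism
  obtain ⟨α, hα, hαc⟩ := exists_equiv_completion m f (fun hab => hfcomp hab) hfsurj hfker hfinj
  refine ⟨A, inferInstance, inferInstance, hft, m, hm, hresA, η, α, hαc, fun i ψ hψ => ?_⟩
  have hψf : ψ = f (i + 1) := AlgHom.ext fun r => (RingHom.congr_fun hψ r).trans (hα (i + 1) r)
  rw [hψf, ← hfg (i + 1) i (by omega)]
  exact map_factor F _ (g i).1 ξ η (g i).2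

end Groth.Agent.Alg17
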